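import Groth.Agent.SGA3t2b.K218.Fib
import Mathlib.RingTheory.Localization.Free
import Mathlib.RingTheory.Localization.BaseChange
import Mathlib.RingTheory.Localization.Away.Basic
import Mathlib.RingTheory.LocalRing.Module
import Mathlib.RingTheory.LocalRing.ResidueField.Ideal
import Mathlib.RingTheory.Spectrum.Prime.Topology
import Mathlib.Algebra.Module.FinitePresentation

/-!
# Local freeness and openness of the regular locus when the rank of the fibres is locally constant
-/

set_option autoImplicit false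

universe u

open scoped TensorProduct
open Module LieAlgebra

namespace K218.LocFree

open K218.RankBC K218.Fib

section Free

variable {A : Type*} [CommRing A] {M : Type*} [AddCommGroup M] [Module A M]

theorem exists_free_away [Module.Finite A M] [Module.Projective A M] (p : PrimeSpectrum A) :
    ∃ f : A, f ∉ p.asIdeal ∧ Module.Free (Localization.Away f) (Localization.Away f ⊗[A] M) := by
  haveI : Module.FinitePresentation A M := Module.finitePresentation_of_projective A M
  let S := p.asIdeal.primeCompl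
  haveI : Module.Free (Localization.AtPrime p.asIdeal) (LocalizedModule S M) := by
    haveI : Module.Finite (Localization.AtPrime p.asIdeal) (LocalizedModule S M) :=
      Module.Finite.of_isLocalizedModule S (Rₚ := Localization.AtPrime p.asIdeal)
        (LocalizedModule.mkLinearMap S M)
    haveI : Module.Flat (Localization.AtPrime p.asIdeal) (LocalizedModule S M) :=
      Module.Flat.localizedModule S
    exact Module.free_of_flat_of_isLocalRing
  obtain ⟨f, hf, hfree, -⟩ := Module.FinitePresentation.exists_free_localizedModule_powers S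
    (LocalizedModule.mkLinearMap S M) (Localization.AtPrime p.asIdeal)
  refine ⟨f, hf, ?_⟩
  exact Module.Free.of_equiv (LocalizedModule.equivTensorProduct (Submonoid.powers f) M)

/-- A field valued point of `D(f)` gives a point of the localization. -/
noncomputable abbrev awayAlg (f : A) (K : Type*) [Field K] [Algebra A K]
    (h : algebraMap A K f ≠ 0) : Algebra (Localization.Away f) K :=
  (IsLocalization.Away.lift (S := Localization.Away f) f (isUnit_iff_ne_zero.mpr h)).toAlgebra

theorem awayAlg_tower (f : A) (K : Type*) [Field K] [Algebra A K] (h : algebraMap A K f ≠ 0) :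
    letI := awayAlg f K h
    IsScalarTower A (Localization.Away f) K := by
  letI := awayAlg f K h
  refine IsScalarTower.of_algebraMap_eq fun x => ?_
  exact (IsLocalization.Away.lift_eq f (isUnit_iff_ne_zero.mpr h) x).symm

/-- scaling an element of a fibre to come from the module -/
theorem exists_smul_eq_one_tmul (p : Ideal A) [p.IsPrime] (z : p.ResidueField ⊗[A] M) :
    ∃ s : A, s ∉ p ∧ ∃ m : M, s • z = (1 : p.ResidueField) ⊗ₜ[A] m := by
  induction z with
  | zero => exact ⟨1, fun h => Ideal.IsPrime.ne_top ‹_› ((Ideal.eq_top_iff_one p).mpr h), 0, by simp⟩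
  | add x y hx hy =>
    obtain ⟨s, hs, m, hm⟩ := hx
    obtain ⟨t, ht, n, hn⟩ := hy
    refine ⟨s * t, fun h => ?_, t • m + s • n, ?_⟩
    · rcases Ideal.IsPrime.mem_or_mem ‹_› h with h | h
      · exact hs h
      · exact ht h
    · rw [smul_add, TensorProduct.tmul_add, TensorProduct.tmul_smul, TensorProduct.tmul_smul, ← hm,
        ← hn, smul_smul, smul_smul, mul_comm t s]
  | tmul c m =>
    obtain ⟨⟨b, t⟩, hbt⟩ := IsLocalization.surj (nonZeroDivisors (A ⧸ p)) c
    obtain ⟨t, ht⟩ := t
    obtain ⟨b, rfl⟩ := Ideal.Quotient.mk_surjective b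
    obtain ⟨t, rfl⟩ := Ideal.Quotient.mk_surjective t
    have ht' : t ∉ p := by
      intro h
      rw [Ideal.Quotient.eq_zero_iff_mem.mpr h] at ht
      exact zero_notMem_nonZeroDivisors ht
    refine ⟨t, ht', b • m, ?_⟩
    have : t • c = b • (1 : p.ResidueField) := by
      rw [Algebra.smul_def, Algebra.smul_def, mul_one, mul_comm]
      exact hbt
    rw [TensorProduct.tmul_smul, TensorProduct.smul_tmul', TensorProduct.smul_tmul', this]

end Free

section Coeff

variable (A B K : Type*) [CommRing A] [CommRing B] [Field K] [Algebra A B] [Algebra A K]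
  [Algebra B K] [IsScalarTower A B K]
variable (L : Type*) [LieRing L] [LieAlgebra A L] [Module.Finite A L]

theorem isRegular_iff_coeff [Module.Free B (B ⊗[A] L)] (b : B ⊗[A] L) :
    IsRegular K ((1 : K) ⊗ₜ[B] b) ↔
      algebraMap B K ((ad B (B ⊗[A] L) b).charpoly.coeff (rank K (K ⊗[A] L))) ≠ 0 := by
  rw [isRegular_def, rank_cancel A B K L, ad_baseChange_tmul, LinearMap.charpoly_baseChange,
    Polynomial.coeff_map]

end Coeff

section Open

variable {A : Type u} [CommRing A] {L : Type u} [LieRing L] [LieAlgebra A L] [Module.Finite A L]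
  [Module.Projective A L]

theorem exists_local_coeff (p : PrimeSpectrum A)
    (hC0 : ∃ f : A, f ∉ p.asIdeal ∧ ∀ q : PrimeSpectrum A, f ∉ q.asIdeal →
        LieAlgebra.rank q.asIdeal.ResidueField (q.asIdeal.ResidueField ⊗[A] L) =
          LieAlgebra.rank p.asIdeal.ResidueField (p.asIdeal.ResidueField ⊗[A] L)) (a : L) :
    ∃ f : A, f ∉ p.asIdeal ∧ ∃ c : A, ∀ q : PrimeSpectrum A, f ∉ q.asIdeal →
      (LieAlgebra.IsRegular q.asIdeal.ResidueField ((1 : q.asIdeal.ResidueField) ⊗ₜ[A] a) ↔
        c ∉ q.asIdeal) := by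
  obtain ⟨f₁, hf₁, hfree⟩ := exists_free_away (M := L) p
  obtain ⟨f₂, hf₂, hrk⟩ := hC0
  set r := LieAlgebra.rank p.asIdeal.ResidueField (p.asIdeal.ResidueField ⊗[A] L)
  obtain ⟨⟨c, s⟩, hc⟩ := IsLocalization.surj (Submonoid.powers f₁)
    ((ad (Localization.Away f₁) (Localization.Away f₁ ⊗[A] L) (1 ⊗ₜ a)).charpoly.coeff r)
  refine ⟨f₁ * f₂, ?_, c, ?_⟩
  · intro h
    rcases p.isPrime.mem_or_mem h with h | h
    · exact hf₁ h
    · exact hf₂ h
  · intro q hq
    have hq1 : f₁ ∉ q.asIdeal := fun h => hq (Ideal.mul_mem_right _ _ h)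
    have hq2 : f₂ ∉ q.asIdeal := fun h => hq (Ideal.mul_mem_left _ _ h)
    have hne : algebraMap A q.asIdeal.ResidueField f₁ ≠ 0 := by
      rw [Ne, Ideal.algebraMap_residueField_eq_zero]; exact hq1
    letI := awayAlg f₁ q.asIdeal.ResidueField hne
    haveI := awayAlg_tower f₁ q.asIdeal.ResidueField hne
    rw [← isRegular_cancel_one A (Localization.Away f₁) q.asIdeal.ResidueField a,
      isRegular_iff_coeff, hrk q hq2]
    have h1 := congrArg (algebraMap (Localization.Away f₁) q.asIdeal.ResidueField) hc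
    dsimp only at h1
    rw [map_mul, ← IsScalarTower.algebraMap_apply, ← IsScalarTower.algebraMap_apply] at h1
    have hs : algebraMap A q.asIdeal.ResidueField s ≠ 0 := by
      obtain ⟨_, n, rfl⟩ := s
      simp only [map_pow]
      exact pow_ne_zero n hne
    rw [← Ideal.algebraMap_residueField_eq_zero (I := q.asIdeal) (x := c), ← Ne, ← h1,
      mul_ne_zero_iff_right hs]

theorem isOpen_regular
    (hC0 : ∀ p : PrimeSpectrum A, ∃ f : A, f ∉ p.asIdeal ∧ ∀ q : PrimeSpectrum A, f ∉ q.asIdeal →
        LieAlgebra.rank q.asIdeal.ResidueField (q.asIdeal.ResidueField ⊗[A] L) =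
          LieAlgebra.rank p.asIdeal.ResidueField (p.asIdeal.ResidueField ⊗[A] L)) (a : L) :
    IsOpen {p : PrimeSpectrum A |
      LieAlgebra.IsRegular p.asIdeal.ResidueField ((1 : p.asIdeal.ResidueField) ⊗ₜ[A] a)} := by
  rw [isOpen_iff_forall_mem_open]
  intro p hp
  obtain ⟨f, hf, c, hc⟩ := exists_local_coeff p (hC0 p) a
  refine ⟨PrimeSpectrum.basicOpen f ⊓ PrimeSpectrum.basicOpen c, ?_, ?_, ?_⟩
  · rintro q ⟨h1, h2⟩
    exact (hc q h1).mpr h2
  · exact (PrimeSpectrum.basicOpen f).isOpen.inter (PrimeSpectrum.basicOpen c).isOpen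
  · exact ⟨hf, (hc p hf).mp hp⟩

/-- basic open neighbourhood on which the section is regular -/
theorem exists_basicOpen
    (hC0 : ∀ p : PrimeSpectrum A, ∃ f : A, f ∉ p.asIdeal ∧ ∀ q : PrimeSpectrum A, f ∉ q.asIdeal →
        LieAlgebra.rank q.asIdeal.ResidueField (q.asIdeal.ResidueField ⊗[A] L) =
          LieAlgebra.rank p.asIdeal.ResidueField (p.asIdeal.ResidueField ⊗[A] L)) (a : L)
    (p : PrimeSpectrum A)
    (ha : LieAlgebra.IsRegular p.asIdeal.ResidueField ((1 : p.asIdeal.ResidueField) ⊗ₜ[A] a)) :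
    ∃ f : A, f ∉ p.asIdeal ∧ ∀ q : PrimeSpectrum A, f ∉ q.asIdeal →
      LieAlgebra.IsRegular q.asIdeal.ResidueField ((1 : q.asIdeal.ResidueField) ⊗ₜ[A] a) := by
  obtain ⟨f, hf, c, hc⟩ := exists_local_coeff p (hC0 p) a
  refine ⟨f * c, ?_, ?_⟩
  · intro h
    rcases p.isPrime.mem_or_mem h with h | h
    · exact hf h
    · exact (hc p hf).mp ha h
  · intro q hq
    exact (hc q (fun h => hq (Ideal.mul_mem_right _ _ h))).mpr
      (fun h => hq (Ideal.mul_mem_left _ _ h))

end Open

section Smul

variable {K V : Type*} [Field K] [LieRing V] [LieAlgebra K V] [Module.Finite K V]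

theorem isRegular_smul (c : K) (hc : c ≠ 0) (x : V) (hx : IsRegular K x) :
    IsRegular K (c • x) := by
  rw [isRegular_iff_finrank_engel_eq_rank] at hx ⊢
  rw [← hx]
  have : LieSubalgebra.engel K (c • x) = LieSubalgebra.engel K x := by
    ext y
    rw [LieSubalgebra.mem_engel_iff, LieSubalgebra.mem_engel_iff]
    have h : ∀ n : ℕ, ((ad K V (c • x)) ^ n) y = c ^ n • (((ad K V x) ^ n) y) := by
      intro n
      rw [map_smul, smul_pow, LinearMap.smul_apply]
    simp only [h, smul_eq_zero, pow_eq_zero_iff', hc, ne_eq, false_and, false_or]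
  rw [this]

end Smul

end K218.LocFree
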