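import Groth.Agent.S3264
import Groth.Agent.S2966
import Groth.Agent.Sga3.H814.CentralD

/-!
# Unipotent groups: quotients and extensions

* `exists_prim_of_mem_soc`: a Hopf algebra over a field containing a nonconstant element of its
  unipotent filtration has a nonzero primitive element.
* `isUnipotent_of_injective`: quotients of unipotent groups are unipotent.
* `isUnipotent_of_extension`: extensions of unipotent groups are unipotent.
-/

set_option autoImplicit false

universe u

open TensorProduct HopfRep

namespace K218.Unip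

open Groth.Agent.Sga3A.ComodBasic Groth.Agent.Sga3A.ComodUnip

section

variable {k : Type u} [Field k] {D : Type u} [CommRing D] [HopfAlgebra k D]

theorem counit_T (g : D →ₗ[k] k) (y : D) :
    CoalgebraStruct.counit (R := k) (T D g y) = g y := by
  have h : ∀ z : D ⊗[k] D, CoalgebraStruct.counit (R := k)
      (TensorProduct.rid k D (LinearMap.lTensor D g z)) =
      g (TensorProduct.lid k D (LinearMap.rTensor D (CoalgebraStruct.counit (R := k)) z)) := by
    intro z
    induction z with
    | zero => simp
    | add x y hx hy => simp only [map_add, hx, hy]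
    | tmul x y => simp [mul_comm]
  rw [T_apply, h]
  have h2 := Coalgebra.rTensor_counit_comul (R := k) y
  change g (TensorProduct.lid k D (LinearMap.rTensor D (CoalgebraStruct.counit (R := k))
    (CoalgebraStruct.comul y))) = _
  rw [h2]
  simp

/-- a Hopf algebra with a nonconstant element in its unipotent filtration has a nonzero primitive
element -/
theorem exists_prim_of_mem_soc (n : ℕ) (x : D) (hx : x ∈ soc k D D n)
    (hx' : ∀ c : k, x ≠ c • (1 : D)) :
    ∃ y : D, y ≠ 0 ∧ CoalgebraStruct.comul (R := k) y = y ⊗ₜ[k] (1 : D) + (1 : D) ⊗ₜ[k] y := by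
  induction n generalizing x with
  | zero =>
    rw [mem_soc_zero] at hx
    exact absurd hx (by rw [← zero_smul k (1 : D)]; exact hx' 0)
  | succ n ih =>
    by_cases h : ∃ x' ∈ soc k D D n, ∀ c : k, x' ≠ c • (1 : D)
    · obtain ⟨x', h1, h2⟩ := h
      exact ih x' h1 h2
    push Not at h
    rw [mem_soc_succ] at hx
    have h3 : ∀ g : D →ₗ[k] k, T D g x =
        g 1 • x + (g x - g 1 * CoalgebraStruct.counit (R := k) x) • (1 : D) := by
      intro g
      obtain ⟨c, hc⟩ := h _ (hx g)
      have h4 := congrArg (CoalgebraStruct.counit (R := k)) hc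
      rw [map_sub, map_smul, map_smul, counit_T, Bialgebra.counit_one, smul_eq_mul, smul_eq_mul,
        mul_one] at h4
      rw [h4, ← hc]
      abel
    set e := CoalgebraStruct.counit (R := k) x with he
    have h5 : CoalgebraStruct.comul (R := k) x =
        x ⊗ₜ[k] (1 : D) + (1 : D) ⊗ₜ[k] x - e • ((1 : D) ⊗ₜ[k] (1 : D)) := by
      rw [← sub_eq_zero]
      apply eq_zero_of_forall_contract
      intro g
      have h6 := h3 g
      rw [T_apply] at h6
      change TensorProduct.rid k D (LinearMap.lTensor D g (CoalgebraStruct.comul (R := k) x)) = _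
        at h6
      simp only [map_sub, map_add, map_smul, h6, LinearMap.lTensor_tmul, TensorProduct.rid_tmul,
        sub_smul, mul_smul]
      rw [smul_comm e]
      abel
    refine ⟨x - e • (1 : D), sub_ne_zero.mpr (hx' e), ?_⟩
    rw [map_sub, map_smul, h5, Bialgebra.comul_one, Algebra.TensorProduct.one_def]
    simp only [TensorProduct.tmul_sub, TensorProduct.sub_tmul, TensorProduct.tmul_smul,
      TensorProduct.smul_tmul']
    abel

end

/-- Quotients of unipotent groups are unipotent. -/
theorem isUnipotent_of_injective {k : Type u} [Field k] {C A : Type u} [CommRing A]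
    [HopfAlgebra k A] [CommRing C] [HopfAlgebra k C] (ψ : C →ₐc[k] A)
    (hψ : Function.Injective ψ) (hU : IsUnipotent k A) : IsUnipotent k C := by
  intro V _ _ hC hf hn
  letI := hC
  let f : C →ₗc[k] A := (ψ : C →ₗc[k] A)
  have h1 := @hU V _ _ (Groth.Agent.Books.ComodHom.pushComod (k := k) (A := C) (B := A) V f) hf hn
  intro h2
  apply h1
  rw [eq_bot_iff] at h2 ⊢
  intro v hv
  apply h2
  have hv' : f.toLinearMap.lTensor V (Comod.coact (k := k) (A := C) v) = v ⊗ₜ[k] (1 : A) := hv
  have h3 : f.toLinearMap.lTensor V (v ⊗ₜ[k] (1 : C)) = v ⊗ₜ[k] (1 : A) := by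
    rw [LinearMap.lTensor_tmul]
    congr 1
    exact map_one ψ
  have hinj : Function.Injective (f.toLinearMap.lTensor V) :=
    Module.Flat.lTensor_preserves_injective_linearMap _ hψ
  exact hinj (hv'.trans h3.symm)

/-- Extensions of unipotent groups are unipotent. -/
theorem isUnipotent_of_extension {k : Type u} [Field k] {C A : Type u} [CommRing A]
    [HopfAlgebra k A] [Algebra.FiniteType k A] [CommRing C] [HopfAlgebra k C] (ψ : C →ₐc[k] A)
    (J : Ideal A) [J.IsHopfIdeal k]
    (hJ : J = Ideal.map (ψ : C →+* A) (RingHom.ker (Bialgebra.counitAlgHom k C)))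
    (hC : IsUnipotent k C) (hN : IsUnipotent k (A ⧸ J)) : IsUnipotent k A := by
  rw [Groth.Agent.S3264.result]
  intro I _ hI
  by_cases hJI : J ≤ I
  · -- the subgroup is contained in `N`
    have h1 : ∃ a : A, ∀ c : k, Ideal.Quotient.mk I a ≠ c • (1 : A ⧸ I) := by
      by_contra h
      push Not at h
      apply hI
      apply le_antisymm
      · intro a ha
        exact Submodule.IsCoideal.counit_eq_zero (R := k) (I := I.restrictScalars k) ha
      · intro a ha
        obtain ⟨c, hc⟩ := h a
        have h2 := congrArg (CoalgebraStruct.counit (R := k)) hc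
        have h3 : CoalgebraStruct.counit (R := k) (Ideal.Quotient.mk I a) = 0 := ha
        rw [h3, map_smul, Bialgebra.counit_one, smul_eq_mul, mul_one] at h2
        rw [← h2, zero_smul] at hc
        exact Ideal.Quotient.eq_zero_iff_mem.mp hc
    obtain ⟨a, ha⟩ := h1
    obtain ⟨n, hn⟩ := exists_mem_soc hN (Ideal.Quotient.mk J a)
    have h4 := Groth.Agent.S2966.bialgHom_mem_soc (Groth.Agent.S3264.fac (k := k) J I hJI) n _ hn
    exact exists_prim_of_mem_soc n _ h4 ha
  · -- the subgroup has nontrivial image in the quotient
    have h1 : ∃ c : C, ∀ r : k, Ideal.Quotient.mk I (ψ c) ≠ r • (1 : A ⧸ I) := by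
      by_contra h
      push Not at h
      apply hJI
      rw [hJ, Ideal.map_le_iff_le_comap]
      intro c hc
      obtain ⟨r, hr⟩ := h c
      have h2 := congrArg (CoalgebraStruct.counit (R := k)) hr
      have h3 : CoalgebraStruct.counit (R := k) (Ideal.Quotient.mk I (ψ c)) = 0 := by
        change CoalgebraStruct.counit (R := k) (ψ c) = 0
        rw [CoalgHomClass.counit_comp_apply]
        exact hc
      rw [h3, map_smul, Bialgebra.counit_one, smul_eq_mul, mul_one] at h2
      rw [← h2, zero_smul] at hr
      rw [Ideal.mem_comap]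
      exact Ideal.Quotient.eq_zero_iff_mem.mp hr
    obtain ⟨c, hc⟩ := h1
    obtain ⟨n, hn⟩ := exists_mem_soc hC c
    have h4 := Groth.Agent.S2966.bialgHom_mem_soc ψ n _ hn
    haveI : (⊥ : Ideal A).IsHopfIdeal k :=
      { counit_eq_zero := by intro x hx; rw [(Submodule.mem_bot _).mp hx, map_zero]
        map_mkQ_comul_eq_zero := by intro x hx; rw [(Submodule.mem_bot _).mp hx, map_zero, map_zero]
        antipode_mem := by
          intro x hx
          rw [(Submodule.mem_bot _).mp hx, map_zero]
          exact zero_mem _ }
    let q : A →ₐc[k] A ⧸ I :=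
      BialgHom.ofAlgHom (Ideal.Quotient.mkₐ k I)
        (by apply AlgHom.ext; intro a; rfl)
        (by
          apply AlgHom.ext
          intro a
          change Algebra.TensorProduct.map (Ideal.Quotient.mkₐ k I) (Ideal.Quotient.mkₐ k I)
            (CoalgebraStruct.comul a) =
            TensorProduct.map (Ideal.Quotient.mkₐ k I).toLinearMap
              (Ideal.Quotient.mkₐ k I).toLinearMap (CoalgebraStruct.comul a)
          rfl)
    have h5 := Groth.Agent.S2966.bialgHom_mem_soc q n _ h4
    exact exists_prim_of_mem_soc n _ h5 hc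

end K218.Unip
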