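import Groth.Agent.SGA3t2b.K218.FrobKer
import Groth.Agent.Hopf.K503.HopfKer
import Groth.Agent.Sga3B.RG.CentralPt
import Groth.Agent.Books.HopfConn

/-!
# Connected smooth groups over an algebraically closed field: unipotent or containing a torus
-/

set_option autoImplicit false

universe u

open TensorProduct HopfRep LaurentPolynomial

namespace K218.CochMu

open Groth.Agent.Sga3A.ComodBasic K218.PLie K218.Frob

section

variable {k : Type u} [Field k] {A B : Type u} [CommRing A] [HopfAlgebra k A] [CommRing B]
  [HopfAlgebra k B]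

/-- A sub-Hopf-algebra of a cocommutative Hopf algebra is cocommutative. -/
theorem isCocomm_of_injective (f : A →ₐc[k] B) (hf : Function.Injective f)
    [Coalgebra.IsCocomm k B] : Coalgebra.IsCocomm k A := by
  constructor
  ext a
  apply Groth.Agent.Sga3C.SubHopf.map_val_injective' (f : A →ₗ[k] B) (f : A →ₗ[k] B) hf hf
  have h1 : ∀ z : A ⊗[k] A, TensorProduct.map (f : A →ₗ[k] B) (f : A →ₗ[k] B)
      (TensorProduct.comm k A A z) =
      TensorProduct.comm k B B (TensorProduct.map (f : A →ₗ[k] B) (f : A →ₗ[k] B) z) := by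
    intro z
    induction z with
    | zero => simp
    | add x y hx hy => simp only [map_add, hx, hy]
    | tmul x y => rfl
  have h2 := CoalgHomClass.map_comp_comul_apply f a
  change TensorProduct.map (f : A →ₗ[k] B) (f : A →ₗ[k] B)
    (TensorProduct.comm k A A (CoalgebraStruct.comul a)) = TensorProduct.map (f : A →ₗ[k] B)
      (f : A →ₗ[k] B) (CoalgebraStruct.comul a)
  rw [h1]
  refine (congrArg (TensorProduct.comm k B B) h2).trans (Eq.trans ?_ h2.symm)
  exact Coalgebra.comm_comul k (f a)

/-- The map induced on the quotient by the kernel. -/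
noncomputable def kerMap (f : A →ₐc[k] B) [(RingHom.ker (f : A →ₐ[k] B)).IsHopfIdeal k] :
    (A ⧸ RingHom.ker (f : A →ₐ[k] B)) →ₐc[k] B :=
  BialgHom.ofAlgHom (Ideal.kerLiftAlg (f : A →ₐ[k] B))
    (by
      apply Ideal.Quotient.algHom_ext
      apply AlgHom.ext
      intro a
      exact CoalgHomClass.counit_comp_apply f a)
    (by
      apply Ideal.Quotient.algHom_ext
      apply AlgHom.ext
      intro a
      change Algebra.TensorProduct.map _ _
        (TensorProduct.map (Ideal.Quotient.mkₐ k _).toLinearMap
          (Ideal.Quotient.mkₐ k _).toLinearMap (CoalgebraStruct.comul a)) =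
        CoalgebraStruct.comul (f a)
      refine Eq.trans ?_ (CoalgHomClass.map_comp_comul_apply f a)
      generalize (CoalgebraStruct.comul a : A ⊗[k] A) = z
      induction z with
      | zero => simp
      | add x y hx hy => rw [map_add, map_add, hx, hy, map_add]
      | tmul x y => rfl)

theorem kerMap_injective (f : A →ₐc[k] B) [(RingHom.ker (f : A →ₐ[k] B)).IsHopfIdeal k] :
    Function.Injective (kerMap f) := Ideal.kerLiftAlg_injective (f : A →ₐ[k] B)

theorem kerMap_mk (f : A →ₐc[k] B) [(RingHom.ker (f : A →ₐ[k] B)).IsHopfIdeal k] (a : A) :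
    kerMap f (Ideal.Quotient.mk _ a) = f a := rfl

end

/-- A nontrivial homomorphism from a torus gives all `μ_n`. -/
theorem exists_mu_of_hom {k : Type u} [Field k] [IsAlgClosed k] {A B : Type u} [CommRing A]
    [HopfAlgebra k A] [Algebra.FiniteType k A] [CommRing B] [HopfAlgebra k B] [IsDomain B]
    [Algebra.FiniteType k B] [Coalgebra.IsCocomm k B] (hB : IsDiagonalizable k B)
    (c : A →ₐc[k] B) (hc : ∃ a, c a ≠ algebraMap k B (CoalgebraStruct.counit (R := k) a))
    (n : ℕ) : ∃ φ : A →ₐc[k] MonoidAlgebra k (Multiplicative (ZMod n)), Function.Surjective φ := by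
  haveI hJ := K503.HopfKer.isHopfIdeal_ker c
  set J := RingHom.ker (c : A →ₐ[k] B) with hJdef
  haveI : IsDomain (A ⧸ J) := (kerMap_injective c).isDomain (kerMap c : (A ⧸ J) →+* B)
  haveI : Coalgebra.IsCocomm k (A ⧸ J) := isCocomm_of_injective (kerMap c) (kerMap_injective c)
  have hD : IsDiagonalizable k (A ⧸ J) := by
    rw [Groth.Agent.S3273.result]
    intro f hf
    apply kerMap_injective c
    rw [map_zero]
    refine (Groth.Agent.S3273.result k B).mp hB _ ?_
    have h1 := CoalgHomClass.map_comp_comul_apply (kerMap c) f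
    rw [← h1, hf, map_add, TensorProduct.map_tmul, TensorProduct.map_tmul]
    change kerMap c f ⊗ₜ[k] kerMap c 1 + kerMap c 1 ⊗ₜ[k] kerMap c f = _
    rw [map_one]
  obtain ⟨φ, hφ⟩ := DiagMu.exists_mu_of_isDomain k (A ⧸ J) hD (by
    obtain ⟨a, ha⟩ := hc
    refine ⟨Ideal.Quotient.mk J a, fun h => ha ?_⟩
    have h1 := congrArg (kerMap c) h
    rw [kerMap_mk, AlgHomClass.commutes] at h1
    exact h1) n
  refine ⟨φ.comp (Bialgebra.Quotient.mkBialgHom (R := k) J), ?_⟩
  rw [BialgHom.coe_comp]
  exact hφ.comp Ideal.Quotient.mk_surjective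

/-- A connected smooth group over an algebraically closed field which is not unipotent contains
all `μ_n`. -/
theorem exists_mu_of_not_isUnipotent {k : Type u} [Field k] [IsAlgClosed k] {A : Type u}
    [CommRing A] [HopfAlgebra k A] [Algebra.FiniteType k A] [IsDomain A]
    (h : ¬ IsUnipotent k A) (n : ℕ) :
    ∃ φ : A →ₐc[k] MonoidAlgebra k (Multiplicative (ZMod n)), Function.Surjective φ := by
  by_contra hn
  apply h
  refine Groth.Agent.Redsub.H674.UnipPts.isUnipotent_of_forall_isUnip fun g =>
    Groth.Agent.Sga3B.RG.CentralPt.isUnip_of_forall_coch (fun c t => ?_) g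
  by_contra hct
  apply hn
  haveI : Algebra.FiniteType k k[T;T⁻¹] :=
    AddMonoidAlgebra.finiteType_of_fg k ℤ
  refine exists_mu_of_hom (B := k[T;T⁻¹]) ?_ c ?_ n
  · exact AddMonoidAlgebra.span_isGroupLikeElem
  · by_contra hc
    push Not at hc
    apply hct
    apply WithConv.ofConv_injective
    apply AlgHom.ext
    intro a
    have h1 := Groth.Agent.Sga3B.RG.cochPt_apply c t a
    rw [hc a] at h1
    refine h1.trans ?_
    exact AlgHomClass.commutes _ _

section CharP

variable {k : Type u} [Field k] (p : ℕ) [Fact p.Prime] [CharP k p]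

theorem pow_eq_of_mu (x : MonoidAlgebra k (Multiplicative (ZMod p))) :
    x ^ p = algebraMap k _ ((CoalgebraStruct.counit (R := k) x) ^ p) := by
  haveI : CharP (MonoidAlgebra k (Multiplicative (ZMod p))) p :=
    charP_of_injective_algebraMap
      (FaithfulSMul.algebraMap_injective k (MonoidAlgebra k (Multiplicative (ZMod p)))) p
  induction x using MonoidAlgebra.induction_on with
  | of g =>
    have h1 : g ^ p = 1 := by
      change (p • (Multiplicative.toAdd g) : ZMod p) = 0
      rw [nsmul_eq_mul, CharP.cast_eq_zero, zero_mul]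
    rw [← map_pow, h1, map_one]
    have h2 : CoalgebraStruct.counit (R := k) (MonoidAlgebra.of k (Multiplicative (ZMod p)) g) =
        1 := by
      simp
    rw [h2, one_pow, map_one]
  | add x y hx hy =>
    rw [add_pow_char, hx, hy, map_add, add_pow_char, map_add]
  | smul r x hx =>
    rw [Algebra.smul_def, mul_pow, hx, Bialgebra.counit_mul, Bialgebra.counit_algebraMap,
      mul_pow, map_mul, map_pow (algebraMap k _) r]

/-- The Lie algebra of `μ_p` is not nilpotent. -/
theorem not_nilLie_mu : ¬ NilLie k (MonoidAlgebra k (Multiplicative (ZMod p))) := by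
  intro hN
  haveI : Algebra.FiniteType k (MonoidAlgebra k (Multiplicative (ZMod p))) :=
    MonoidAlgebra.finiteType_of_fg
  have hU := HtOneHopf.isUnipotent_of_height_one p (fun x hx => by
    rw [pow_eq_of_mu, hx, zero_pow (Fact.out : p.Prime).ne_zero, map_zero]) hN
  exact UnipMu.not_exists_mu hU p (Fact.out : p.Prime).one_lt
    ⟨BialgHom.id k _, Function.surjective_id⟩

theorem not_exists_mu_of_nilLie {A : Type u} [CommRing A] [HopfAlgebra k A] (hN : NilLie k A) :
    ¬ ∃ φ : A →ₐc[k] MonoidAlgebra k (Multiplicative (ZMod p)), Function.Surjective φ := by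
  rintro ⟨φ, hφ⟩
  exact not_nilLie_mu p (hN.quot φ hφ)

include p in
/-- A connected group over an algebraically closed field of characteristic `p` with nilpotent Lie
algebra is unipotent. -/
theorem isUnipotent_of_nilLie [IsAlgClosed k] {A : Type u} [CommRing A] [HopfAlgebra k A]
    [Algebra.FiniteType k A] (hconn : ∀ e : A, IsIdempotentElem e → e = 0 ∨ e = 1)
    (hN : NilLie k A) : IsUnipotent k A := by
  obtain ⟨r₀, hr⟩ := exists_isReduced (k := k) p (A := A)
  obtain ⟨C, _, _, ψ, h⟩ := exists_isPow k A p (r₀ + 1) (Nat.succ_pos _)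
  haveI := hr (r₀ + 1) (Nat.le_succ _) C ψ h
  haveI := finiteType p h
  refine isUnipotent_of_isPow p h hN ?_
  haveI : IsDomain C := Groth.Agent.Books.HopfConn.isDomain_of_isReduced (k := k) (A := C) (by
    intro e he
    rcases hconn (ψ e) (he.map ψ) with h1 | h1
    · left
      exact h.inj (by rw [h1, map_zero])
    · right
      exact h.inj (by rw [h1, map_one]))
  by_contra hC
  exact not_exists_mu_of_nilLie p (hN.frob p h) (exists_mu_of_not_isUnipotent hC p)

end CharP

end K218.CochMu
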