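import Groth.Agent.S3264
import Mathlib.RingTheory.Bialgebra.MonoidAlgebra
import Mathlib.RingTheory.Bialgebra.GroupLike
import Mathlib.RingTheory.Coalgebra.GroupLike
import Mathlib.RingTheory.SimpleModule.Basic
import Mathlib.RingTheory.FiniteType
import Mathlib.Data.ZMod.QuotientGroup
import Mathlib.Data.ZMod.QuotientRing
import Mathlib.RingTheory.Int.Basic
import Mathlib.RingTheory.HopfAlgebra.GroupLike
import Mathlib.LinearAlgebra.FreeModule.PID
import Mathlib.FieldTheory.IsAlgClosed.Basic
import Mathlib.FieldTheory.Minpoly.Field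

/-!
# Nontrivial diagonalizable groups contain some `μ_n`, `n` prime
-/

set_option autoImplicit false

universe u

open TensorProduct

namespace K218.DiagMu

/-- a nontrivial finitely generated commutative group surjects onto `ℤ/n` for some prime `n` -/
theorem exists_surj_zmod (M : Type u) [CommGroup M] [Group.FG M] [Nontrivial M] :
    ∃ n : ℕ, n.Prime ∧ ∃ f : M →* Multiplicative (ZMod n), Function.Surjective f := by
  let N := Additive M
  haveI : Module.Finite ℤ N := Module.Finite.iff_addGroup_fg.mpr inferInstance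
  haveI : Nontrivial N := inferInstanceAs (Nontrivial M)
  obtain ⟨P, hP⟩ := IsCoatomic.exists_coatom (Submodule ℤ N)
  have hsimple : IsSimpleModule ℤ (N ⧸ P) := isSimpleModule_iff_isCoatom.mpr hP
  obtain ⟨I, hI, ⟨e⟩⟩ := isSimpleModule_iff_quot_maximal.mp hsimple
  obtain ⟨n, rfl⟩ : ∃ n : ℤ, I = Ideal.span {n} :=
    ⟨_, (Submodule.IsPrincipal.span_singleton_generator I).symm⟩
  have hn0 : n ≠ 0 := by
    rintro rfl
    have h1 : (Ideal.span {(0 : ℤ)}) = ⊥ := by simp
    rw [h1] at hI
    have := Ring.ne_bot_of_isMaximal_of_not_isField hI Int.not_isField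
    exact this rfl
  have hp : Prime n := (Ideal.span_singleton_prime hn0).mp hI.isPrime
  refine ⟨n.natAbs, Int.prime_iff_natAbs_prime.mp hp, ?_⟩
  let g : N →+ ZMod n.natAbs :=
    ((Int.quotientSpanEquivZMod n).toAddEquiv.toAddMonoidHom.comp e.toLinearMap.toAddMonoidHom).comp
      P.mkQ.toAddMonoidHom
  refine ⟨AddMonoidHom.toMultiplicativeRight g, ?_⟩
  have hg : Function.Surjective g := by
    refine ((Int.quotientSpanEquivZMod n).surjective.comp e.surjective).comp P.mkQ_surjective
  intro y
  obtain ⟨x, hx⟩ := hg (Multiplicative.toAdd y)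
  exact ⟨Additive.toMul x, congrArg Multiplicative.ofAdd hx⟩

section

variable {k : Type u} [Field k] {D : Type u} [CommRing D] [HopfAlgebra k D]

/-- A diagonalizable Hopf algebra is the group algebra of its group-like elements. -/
noncomputable def groupLikeEquiv (hD : HopfRep.IsDiagonalizable k D) :
    MonoidAlgebra k (GroupLike k D) ≃ₐc[k] D :=
  BialgEquiv.ofBijective (MonoidAlgebra.liftGroupLikeBialgHom) (by
    have h1 : ∀ x : MonoidAlgebra k (GroupLike k D),
        (MonoidAlgebra.liftGroupLikeBialgHom : MonoidAlgebra k (GroupLike k D) →ₐc[k] D) x =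
        Finsupp.linearCombination k (GroupLike.val (R := k) (A := D)) x.coeff := by
      intro x
      change MonoidAlgebra.lift k D (GroupLike k D) _ x = _
      rw [MonoidAlgebra.lift_apply]
      rfl
    constructor
    · intro x y hxy
      rw [h1, h1] at hxy
      have h2 := (linearIndep_groupLikeVal (R := k) (A := D)) hxy
      ext m
      rw [h2]
    · have h3 : Submodule.span k {a : D | IsGroupLikeElem k a} ≤
          LinearMap.range ((MonoidAlgebra.liftGroupLikeBialgHom :
            MonoidAlgebra k (GroupLike k D) →ₐc[k] D) :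
            MonoidAlgebra k (GroupLike k D) →ₗ[k] D) := by
        rw [Submodule.span_le]
        intro a ha
        refine ⟨MonoidAlgebra.single ⟨a, ha⟩ 1, ?_⟩
        change (MonoidAlgebra.liftGroupLikeBialgHom :
            MonoidAlgebra k (GroupLike k D) →ₐc[k] D) _ = a
        simp [MonoidAlgebra.liftGroupLikeBialgHom]
      rw [show Submodule.span k {a : D | IsGroupLikeElem k a} = ⊤ from hD] at h3
      intro d
      exact h3 (Submodule.mem_top : d ∈ ⊤))

theorem fg_groupLike [Algebra.FiniteType k D] (hD : HopfRep.IsDiagonalizable k D) :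
    Group.FG (GroupLike k D) := by
  haveI : Algebra.FiniteType k (MonoidAlgebra k (GroupLike k D)) :=
    Algebra.FiniteType.of_surjective
      ((groupLikeEquiv hD).symm : D →ₐ[k] MonoidAlgebra k (GroupLike k D))
      (groupLikeEquiv hD).symm.surjective
  haveI : Monoid.FG (GroupLike k D) := MonoidAlgebra.fg_of_finiteType (R := k)
  exact Group.fg_iff_monoid_fg.mpr inferInstance

theorem nontrivial_groupLike (hD : HopfRep.IsDiagonalizable k D)
    (hne : ∃ d : D, d ≠ algebraMap k D (CoalgebraStruct.counit (R := k) d)) :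
    Nontrivial (GroupLike k D) := by
  by_contra hnt
  rw [not_nontrivial_iff_subsingleton] at hnt
  obtain ⟨d, hd⟩ := hne
  apply hd
  have hall : ∀ x ∈ Submodule.span k {a : D | IsGroupLikeElem k a},
      x = algebraMap k D (CoalgebraStruct.counit (R := k) x) := by
    intro x hx
    induction hx using Submodule.span_induction with
    | mem y hy =>
      have h4 : (⟨y, hy⟩ : GroupLike k D) = 1 := Subsingleton.elim _ _
      have h5 : y = 1 := congrArg GroupLike.val h4
      rw [h5, Bialgebra.counit_one, map_one]
    | zero => rw [map_zero, map_zero]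
    | add y z _ _ hy hz => rw [map_add, map_add, ← hy, ← hz]
    | smul r y _ hy =>
      rw [map_smul, smul_eq_mul, map_mul, ← hy, Algebra.smul_def]
  exact hall d (by
    rw [show Submodule.span k {a : D | IsGroupLikeElem k a} = ⊤ from hD]
    exact Submodule.mem_top)

/-- Quotients of the character group give subgroups. -/
theorem exists_bialgHom_of_surj (hD : HopfRep.IsDiagonalizable k D) {N : Type} [CommGroup N]
    (f : GroupLike k D →* N) (hf : Function.Surjective f) :
    ∃ φ : D →ₐc[k] MonoidAlgebra k N, Function.Surjective φ := by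
  refine ⟨(MonoidAlgebra.mapDomainBialgHom k f).comp ((groupLikeEquiv hD).symm : D →ₐc[k] _), ?_⟩
  rw [BialgHom.coe_comp]
  refine Function.Surjective.comp ?_ (groupLikeEquiv hD).symm.surjective
  intro y
  induction y using MonoidAlgebra.induction_on with
  | of g =>
    obtain ⟨x, rfl⟩ := hf g
    exact ⟨MonoidAlgebra.single x 1, MonoidAlgebra.mapDomainBialgHom_single f x 1⟩
  | add x y hx hy =>
    obtain ⟨a, rfl⟩ := hx
    obtain ⟨b, rfl⟩ := hy
    exact ⟨a + b, map_add _ _ _⟩
  | smul r x hx =>
    obtain ⟨a, rfl⟩ := hx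
    exact ⟨r • a, map_smul _ _ _⟩

end

/-- A nontrivial diagonalizable group contains some `μ_n`, `n` prime. -/
theorem exists_mu_of_isDiagonalizable (k : Type u) [Field k] (D : Type u) [CommRing D]
    [HopfAlgebra k D] [Algebra.FiniteType k D] (hD : HopfRep.IsDiagonalizable k D)
    (hne : ∃ d : D, d ≠ algebraMap k D (CoalgebraStruct.counit (R := k) d)) :
    ∃ n : ℕ, n.Prime ∧ ∃ φ : D →ₐc[k] MonoidAlgebra k (Multiplicative (ZMod n)),
      Function.Surjective φ := by
  haveI := fg_groupLike hD
  haveI := nontrivial_groupLike hD hne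
  obtain ⟨n, hn, f, hf⟩ := exists_surj_zmod (GroupLike k D)
  exact ⟨n, hn, exists_bialgHom_of_surj hD f hf⟩

/-- a nontrivial finitely generated torsion-free commutative group surjects onto `ℤ/n` -/
theorem exists_surj_zmod_of_torsionFree (M : Type u) [CommGroup M] [Group.FG M] [Nontrivial M]
    (hM : ∀ (x : M) (m : ℕ), 0 < m → x ^ m = 1 → x = 1) (n : ℕ) :
    ∃ f : M →* Multiplicative (ZMod n), Function.Surjective f := by
  let N := Additive M
  haveI : Module.Finite ℤ N := Module.Finite.iff_addGroup_fg.mpr inferInstance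
  haveI : Nontrivial N := inferInstanceAs (Nontrivial M)
  have h0 : ∀ (x : N) (r : ℤ), r ≠ 0 → r • x = 0 → x = 0 := by
    intro x r hr hx
    have h1 : (r.natAbs) • x = 0 := by
      rcases Int.natAbs_eq r with h | h
      · rw [h, natCast_zsmul] at hx
        exact hx
      · rw [h, neg_smul, natCast_zsmul, neg_eq_zero] at hx
        exact hx
    exact hM (Additive.toMul x) r.natAbs (Int.natAbs_pos.mpr hr) h1
  haveI : Module.IsTorsionFree ℤ N := by
    constructor
    intro r hr x y hxy
    have hr0 : r ≠ 0 := hr.ne_zero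
    have h1 : r • (x - y) = 0 := by
      rw [smul_sub, sub_eq_zero]
      exact hxy
    exact sub_eq_zero.mp (h0 _ r hr0 h1)
  haveI : Module.Free ℤ N := inferInstance
  let b := Module.Free.chooseBasis ℤ N
  haveI : Nonempty (Module.Free.ChooseBasisIndex ℤ N) := b.index_nonempty
  obtain ⟨i⟩ := this
  let g : N →+ ZMod n := (Int.castAddHom (ZMod n)).comp (b.coord i).toAddMonoidHom
  have hg : Function.Surjective g := by
    intro y
    obtain ⟨z, rfl⟩ := ZMod.intCast_surjective y
    refine ⟨z • b i, ?_⟩
    change ((b.coord i (z • b i) : ℤ) : ZMod n) = _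
    rw [map_smul, Module.Basis.coord_apply, Module.Basis.repr_self, Finsupp.single_eq_same,
      smul_eq_mul, mul_one]
  refine ⟨AddMonoidHom.toMultiplicativeRight g, ?_⟩
  intro y
  obtain ⟨x, hx⟩ := hg (Multiplicative.toAdd y)
  exact ⟨Additive.toMul x, congrArg Multiplicative.ofAdd hx⟩

/-- A nontrivial torus over an algebraically closed field contains all `μ_n`. -/
theorem exists_mu_of_isDomain (k : Type u) [Field k] [IsAlgClosed k] (D : Type u) [CommRing D]
    [HopfAlgebra k D] [Algebra.FiniteType k D] [IsDomain D] (hD : HopfRep.IsDiagonalizable k D)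
    (hne : ∃ d : D, d ≠ algebraMap k D (CoalgebraStruct.counit (R := k) d)) (n : ℕ) :
    ∃ φ : D →ₐc[k] MonoidAlgebra k (Multiplicative (ZMod n)), Function.Surjective φ := by
  haveI := fg_groupLike hD
  haveI := nontrivial_groupLike hD hne
  obtain ⟨f, hf⟩ := exists_surj_zmod_of_torsionFree (GroupLike k D) (by
    intro x m hm hx
    have h1 : (x : D) ^ m = 1 := congrArg GroupLike.val hx
    have hint : IsIntegral k (x : D) := by
      refine ⟨Polynomial.X ^ m - Polynomial.C 1, Polynomial.monic_X_pow_sub_C 1 hm.ne', ?_⟩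
      simp [h1]
    have hirr := minpoly.irreducible hint
    have hdeg := IsAlgClosed.degree_eq_one_of_irreducible k hirr
    obtain ⟨c, hc⟩ := minpoly.mem_range_of_degree_eq_one k (x : D) hdeg
    have h2 := x.2.counit_eq_one
    have h3 : CoalgebraStruct.counit (R := k) (x : D) = c := by
      rw [← hc, Algebra.algebraMap_eq_smul_one, map_smul, Bialgebra.counit_one, smul_eq_mul,
        mul_one]
    have h4 : c = 1 := h3.symm.trans h2
    apply GroupLike.val_injective
    change (x : D) = 1
    rw [← hc, h4, map_one]) n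
  exact exists_bialgHom_of_surj hD f hf

end K218.DiagMu
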