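import Groth.Agent.S3273
import Groth.Agent.S7974
import Groth.Agent.S7987
import Groth.Agent.SGA3t2b.K218.DiagMu
import Groth.Agent.Books.ComodHom

/-!
# Non-unipotent points give closed subgroups isomorphic to `μ_n`
-/

set_option autoImplicit false

universe u

open TensorProduct HopfRep

namespace K218.NonUnip

/-- quotients of cocommutative Hopf algebras are cocommutative -/
theorem isCocomm_quotient {k A : Type u} [Field k] [CommRing A] [HopfAlgebra k A]
    [Coalgebra.IsCocomm k A] (I : Ideal A) [I.IsHopfIdeal k] : Coalgebra.IsCocomm k (A ⧸ I) := by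
  constructor
  ext x
  obtain ⟨a, rfl⟩ := Ideal.Quotient.mk_surjective x
  have h1 : CoalgebraStruct.comul (R := k) (Ideal.Quotient.mk I a) =
      TensorProduct.map (Ideal.Quotient.mkₐ k I).toLinearMap (Ideal.Quotient.mkₐ k I).toLinearMap
        (CoalgebraStruct.comul (R := k) a) := rfl
  have h2 : ∀ z : A ⊗[k] A, TensorProduct.comm k (A ⧸ I) (A ⧸ I)
      (TensorProduct.map (Ideal.Quotient.mkₐ k I).toLinearMap
        (Ideal.Quotient.mkₐ k I).toLinearMap z) =
      TensorProduct.map (Ideal.Quotient.mkₐ k I).toLinearMap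
        (Ideal.Quotient.mkₐ k I).toLinearMap (TensorProduct.comm k A A z) := by
    intro z
    induction z with
    | zero => simp
    | add x y hx hy => simp only [map_add, hx, hy]
    | tmul x y => rfl
  change TensorProduct.comm k (A ⧸ I) (A ⧸ I) (CoalgebraStruct.comul _) = _
  rw [h1, h2, Coalgebra.comm_comul]

/-- A commutative affine group over a separably closed field which is not unipotent contains some
`μ_n`, `n` prime. -/
theorem exists_mu_of_isCocomm (k : Type u) [Field k] [IsSepClosed k] (A : Type u) [CommRing A]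
    [HopfAlgebra k A] [Algebra.FiniteType k A] [Coalgebra.IsCocomm k A]
    (h : ¬ IsUnipotent k A) :
    ∃ n : ℕ, n.Prime ∧ ∃ φ : A →ₐc[k] MonoidAlgebra k (Multiplicative (ZMod n)),
      Function.Surjective φ := by
  rw [Groth.Agent.S3264.result] at h
  push Not at h
  obtain ⟨I, hI, hne, hprim⟩ := h
  haveI := isCocomm_quotient (k := k) I
  have hD : IsDiagonalizable k (A ⧸ I) := by
    rw [Groth.Agent.S3273.result]
    intro f hf
    by_contra hf0
    exact hprim f hf0 hf
  obtain ⟨n, hn, φ, hφ⟩ := DiagMu.exists_mu_of_isDiagonalizable k (A ⧸ I) hD (by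
    by_contra hc
    push Not at hc
    apply hne
    apply le_antisymm
    · intro a ha
      exact Submodule.IsCoideal.counit_eq_zero (R := k) (I := I.restrictScalars k) ha
    · intro a ha
      have h2 := hc (Ideal.Quotient.mk I a)
      have h3 : CoalgebraStruct.counit (R := k) (Ideal.Quotient.mk I a) = 0 := ha
      rw [h3, map_zero] at h2
      exact Ideal.Quotient.eq_zero_iff_mem.mp h2)
  refine ⟨n, hn, φ.comp (Bialgebra.Quotient.mkBialgHom (R := k) I), ?_⟩
  rw [BialgHom.coe_comp]
  exact hφ.comp Ideal.Quotient.mk_surjective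

section Point

variable {k : Type u} [Field k] {A : Type u} [CommRing A] [HopfAlgebra k A]
  [Algebra.FiniteType k A]

omit [Algebra.FiniteType k A] in
theorem comm_contr {V : Type u} [AddCommGroup V] [Module k V] (f g : V →ₗ[k] k)
    (t : V ⊗[k] V) : f (TensorProduct.rid k V (g.lTensor V (TensorProduct.comm k V V t))) =
      g (TensorProduct.rid k V (f.lTensor V t)) := by
  induction t with
  | zero => simp
  | tmul x y =>
    rw [TensorProduct.comm_tmul, LinearMap.lTensor_tmul, LinearMap.lTensor_tmul,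
      TensorProduct.rid_tmul, TensorProduct.rid_tmul, map_smul, map_smul, smul_eq_mul,
      smul_eq_mul, mul_comm]
  | add x y hx hy => simp only [map_add, hx, hy]

open Groth.Agent.Books.PointsAC Groth.Agent.Books.HopfPoints in
/-- the closed subgroup generated by a commutative group of points is commutative -/
theorem isCocomm_of_comm (S : Subgroup (WithConv (A →ₐ[k] k)))
    (hS : ∀ g ∈ S, ∀ h ∈ S, g * h = h * g) (I : Ideal A)
    (hI : I = ⨅ g ∈ S, RingHom.ker (WithConv.ofConv g : A →ₐ[k] k)) [I.IsHopfIdeal k] :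
    Coalgebra.IsCocomm k (A ⧸ I) := by
  have hmem : ∀ a : A, a ∈ I ↔ ∀ g ∈ S, (WithConv.ofConv g : A →ₐ[k] k) a = 0 := by
    intro a
    simp [hI, Submodule.mem_iInf, RingHom.mem_ker]
  have hle : ∀ g : S, ∀ a ∈ I, (WithConv.ofConv (g : WithConv (A →ₐ[k] k))) a = 0 :=
    fun g a ha => (hmem a).1 ha g g.2
  obtain ⟨q, hqmk⟩ : ∃ q : S → ((A ⧸ I) →ₗ[k] k), ∀ (g : S) (a : A),
      q g (Ideal.Quotient.mk I a) = (WithConv.ofConv (g : WithConv (A →ₐ[k] k))) a :=
    ⟨fun g => (Ideal.Quotient.liftₐ I _ (hle g)).toLinearMap, fun g a => rfl⟩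
  have hqinj : ∀ b, (∀ g, q g b = 0) → b = 0 := by
    intro b hb
    obtain ⟨a, rfl⟩ := Ideal.Quotient.mk_surjective b
    rw [Ideal.Quotient.eq_zero_iff_mem]
    refine (hmem a).2 fun g hg => ?_
    rw [← hb ⟨g, hg⟩, hqmk]
  constructor
  ext x
  obtain ⟨a, rfl⟩ := Ideal.Quotient.mk_surjective x
  change TensorProduct.comm k (A ⧸ I) (A ⧸ I) (CoalgebraStruct.comul _) = CoalgebraStruct.comul _
  rw [← sub_eq_zero]
  refine tmul_eq_zero_of_forall q hqinj _ fun h => ?_
  refine hqinj _ fun g => ?_
  have h1 : CoalgebraStruct.comul (R := k) (Ideal.Quotient.mk I a) =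
      TensorProduct.map (Ideal.Quotient.mkₐ k I).toLinearMap (Ideal.Quotient.mkₐ k I).toLinearMap
        (CoalgebraStruct.comul (R := k) a) := rfl
  have key : ∀ (g h : S) (t : A ⊗[k] A), q g ((TensorProduct.rid k _) ((q h).lTensor _
      (TensorProduct.map (Ideal.Quotient.mkₐ k I).toLinearMap
        (Ideal.Quotient.mkₐ k I).toLinearMap t))) =
      (WithConv.ofConv (g : WithConv (A →ₐ[k] k)))
        (evR k (WithConv.ofConv (h : WithConv (A →ₐ[k] k))) t) := by
    intro g h t
    induction t with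
    | zero => simp
    | tmul x y => simp [evR_tmul, hqmk]
    | add x y hx hy => simp only [map_add, hx, hy]
  rw [map_sub, map_sub, map_sub, comm_contr, h1, key, key, ← ofConv_mul, ← ofConv_mul,
    hS _ g.2 _ h.2, sub_self]

/-- A point acting non-unipotently on some representation gives a closed subgroup isomorphic to
some `μ_n`, `n` prime. -/
theorem exists_mu_of_act [IsSepClosed k] (g : A →ₐ[k] k) (V : Type u) [AddCommGroup V]
    [Module k V] [Comod k A V] [Module.Finite k V]
    (h : ¬ IsNilpotent (Comod.act k A V g - LinearMap.id)) :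
    ∃ n : ℕ, n.Prime ∧ ∃ φ : A →ₐc[k] MonoidAlgebra k (Multiplicative (ZMod n)),
      Function.Surjective φ := by
  let S : Subgroup (WithConv (A →ₐ[k] k)) := Subgroup.zpowers (WithConv.toConv g)
  obtain ⟨I, hI⟩ : ∃ I : Ideal A, I = ⨅ g ∈ S, RingHom.ker (WithConv.ofConv g : A →ₐ[k] k) :=
    ⟨_, rfl⟩
  haveI : I.IsHopfIdeal k := by
    rw [hI]
    exact Groth.Agent.S7974.result k A S
  haveI : Coalgebra.IsCocomm k (A ⧸ I) := isCocomm_of_comm S (by
    rintro _ ⟨i, rfl⟩ _ ⟨j, rfl⟩
    exact (zpow_mul_comm _ _ _)) I hI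
  have hgI : ∀ a ∈ I, g a = 0 := by
    intro a ha
    rw [hI] at ha
    simp only [Submodule.mem_iInf] at ha
    exact ha (WithConv.toConv g) (Subgroup.mem_zpowers _)
  have hnu : ¬ IsUnipotent k (A ⧸ I) := by
    intro hU
    apply h
    let π : A →ₐc[k] A ⧸ I := Bialgebra.Quotient.mkBialgHom (R := k) I
    let f : A →ₗc[k] A ⧸ I := (π : A →ₗc[k] A ⧸ I)
    letI := Groth.Agent.Books.ComodHom.pushComod (k := k) (A := A) (B := A ⧸ I) V f
    have h1 := Groth.Agent.S7987.result k (A ⧸ I) hU (Ideal.Quotient.liftₐ I g hgI) V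
    have h2 : Comod.act k (A ⧸ I) V (Ideal.Quotient.liftₐ I g hgI) = Comod.act k A V g := by
      ext v
      change TensorProduct.rid k V (LinearMap.lTensor V _ (LinearMap.lTensor V f.toLinearMap _)) =
        TensorProduct.rid k V (LinearMap.lTensor V _ _)
      rw [← LinearMap.comp_apply (LinearMap.lTensor V _), ← LinearMap.lTensor_comp]
      rfl
    rw [h2] at h1
    exact h1
  obtain ⟨n, hn, φ, hφ⟩ := exists_mu_of_isCocomm k (A ⧸ I) hnu
  refine ⟨n, hn, φ.comp (Bialgebra.Quotient.mkBialgHom (R := k) I), ?_⟩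
  rw [BialgHom.coe_comp]
  exact hφ.comp Ideal.Quotient.mk_surjective

end Point

end K218.NonUnip
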