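import Groth.Agent.SGA3t2b.K218.Frob
import Groth.Agent.SGA3t2b.K218.NonUnip
import Groth.Agent.HopfRep.K188.Cartier
import Groth.Agent.S5423
import Groth.Agent.Redsub.H674.UnipPts

/-!
# Unipotent groups over an algebraically closed field and subgroups `μ_n`
-/

set_option autoImplicit false

universe u

open TensorProduct HopfRep

namespace K218.UnipMu

open Groth.Agent.Sga3A.ComodBasic K218.PLie K218.Frob

/-- A unipotent group contains no `μ_n`, `n > 1`. -/
theorem not_exists_mu {k : Type u} [Field k] {A : Type u} [CommRing A] [HopfAlgebra k A]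
    (hU : IsUnipotent k A) (n : ℕ) (hn : 1 < n) :
    ¬ ∃ φ : A →ₐc[k] MonoidAlgebra k (Multiplicative (ZMod n)), Function.Surjective φ := by
  rintro ⟨φ, hφ⟩
  have h1 := Groth.Agent.Redsub.H674.UnipPts.eq_algebraMap_counit hU φ hφ
    (D := MonoidAlgebra k (Multiplicative (ZMod n))) MonoidAlgebra.span_isGroupLikeElem
    (BialgHom.id k _) Function.surjective_id (MonoidAlgebra.single (Multiplicative.ofAdd 1) 1)
  rw [MonoidAlgebra.counit_single, CommSemiring.counit_apply] at h1
  have h2 : (Multiplicative.ofAdd (1 : ZMod n)) = 1 := by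
    apply MonoidAlgebra.of_injective (R := k)
    exact (h1.trans (map_one (algebraMap k _))).trans (map_one (MonoidAlgebra.of k _)).symm
  haveI : Fact (1 < n) := ⟨hn⟩
  exact one_ne_zero (α := ZMod n) h2

/-- The pull-back of points to a group from its Frobenius quotient. -/
theorem isUnipotent_pow_of_act {k : Type u} [Field k] [IsAlgClosed k] (p : ℕ) [Fact p.Prime]
    [CharP k p] {A C : Type u} [CommRing A] [HopfAlgebra k A] [Algebra.FiniteType k A]
    [CommRing C] [HopfAlgebra k C] [IsReduced C] {ψ : C →ₐc[k] A} {r : ℕ} (h : IsPow ψ (p ^ r))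
    (hact : ∀ (g : A →ₐ[k] k) (V : Type u) [AddCommGroup V] [Module k V] [Comod k A V]
      [Module.Finite k V], IsNilpotent (Comod.act k A V g - LinearMap.id)) :
    IsUnipotent k C := by
  haveI := finiteType p h
  rw [Groth.Agent.S5423.result]
  intro g V _ _ _ hV
  let f : C →ₗc[k] A := (ψ : C →ₗc[k] A)
  letI := Groth.Agent.Books.ComodHom.pushComod (k := k) (A := C) (B := A) V f
  have h1 := hact (pullPt p h g) V
  have h2 : Comod.act k A V (pullPt p h g) = Comod.act k C V g := by
    ext v
    change TensorProduct.rid k V (LinearMap.lTensor V _ (LinearMap.lTensor V f.toLinearMap _)) =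
      TensorProduct.rid k V (LinearMap.lTensor V _ _)
    rw [← LinearMap.comp_apply (LinearMap.lTensor V _), ← LinearMap.lTensor_comp]
    have h3 : (pullPt p h g).toLinearMap ∘ₗ f.toLinearMap = g.toLinearMap := by
      ext c
      exact pullPt_psi p h g c
    rw [h3]
  rwa [h2] at h1

theorem nilLie_of_not_mu {k : Type u} [Field k] [IsAlgClosed k] (p : ℕ) [Fact p.Prime]
    [CharP k p] {A : Type u} [CommRing A] [HopfAlgebra k A] [Algebra.FiniteType k A]
    (h : ¬ ∃ φ : A →ₐc[k] MonoidAlgebra k (Multiplicative (ZMod p)), Function.Surjective φ) :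
    NilLie k A := by
  intro δ hδ
  by_contra hn
  push Not at hn
  exact h (exists_mu_of_not_nilpotent p δ hδ fun n => hn _)

/-- A group over an algebraically closed field containing no `μ_n`, `n` prime, is unipotent. -/
theorem isUnipotent_of_forall_not_mu (k : Type u) [Field k] [IsAlgClosed k] (A : Type u)
    [CommRing A] [HopfAlgebra k A] [Algebra.FiniteType k A]
    (H : ∀ n : ℕ, n.Prime →
      (¬ ∃ φ : A →ₐc[k] MonoidAlgebra k (Multiplicative (ZMod n)), Function.Surjective φ)) :
    IsUnipotent k A := by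
  have hact : ∀ (g : A →ₐ[k] k) (V : Type u) [AddCommGroup V] [Module k V] [Comod k A V]
      [Module.Finite k V], IsNilpotent (Comod.act k A V g - LinearMap.id) := by
    intro g V _ _ _ _
    by_contra hn
    obtain ⟨n, hn1, hn2⟩ := NonUnip.exists_mu_of_act g V hn
    exact H n hn1 hn2
  obtain ⟨p, hp⟩ := CharP.exists k
  rcases CharP.char_is_prime_or_zero k p with hpp | rfl
  · haveI : Fact p.Prime := ⟨hpp⟩
    have hN := nilLie_of_not_mu p (H p hpp)
    obtain ⟨r₀, hr⟩ := exists_isReduced (k := k) p (A := A)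
    obtain ⟨C, _, _, ψ, h⟩ := exists_isPow k A p (r₀ + 1) (Nat.succ_pos _)
    haveI := hr (r₀ + 1) (Nat.le_succ _) C ψ h
    exact isUnipotent_of_isPow p h hN (isUnipotent_pow_of_act p h hact)
  · haveI : CharZero k := CharP.charP_to_charZero k
    haveI : IsReduced A := K188.Cartier.isReduced k A
    rw [Groth.Agent.S5423.result]
    intro g V _ _ _ hV
    exact hact g V

end K218.UnipMu
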