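import Groth.Agent.SGA3t2b.K218.RankBC
import Mathlib.RingTheory.LocalRing.ResidueField.Ideal
import Mathlib.LinearAlgebra.TensorProduct.Tower

/-!
# Rank and regularity of fibres of a Lie algebra over a ring, and change of the base
-/

set_option autoImplicit false

open scoped TensorProduct
open Module LieAlgebra

namespace K218.Fib

open K218.RankBC

section Ext

variable {B K M N : Type*} [CommRing B] [CommRing K] [Algebra B K] [LieRing M] [LieAlgebra B M]
  [LieRing N] [LieAlgebra K N]

/-- A `K`-linear map out of an extension of scalars which preserves brackets of elements `1 ⊗ m`. -/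
theorem map_lie_of_one_tmul (f : (K ⊗[B] M) →ₗ[K] N)
    (h : ∀ m m' : M, f ((1 : K) ⊗ₜ[B] ⁅m, m'⁆) = ⁅f ((1 : K) ⊗ₜ[B] m), f ((1 : K) ⊗ₜ[B] m')⁆)
    (x y : K ⊗[B] M) : f ⁅x, y⁆ = ⁅f x, f y⁆ := by
  have ht : ∀ (c : K) (m : M), c ⊗ₜ[B] m = c • ((1 : K) ⊗ₜ[B] m) := fun c m => by
    rw [TensorProduct.smul_tmul', smul_eq_mul, mul_one]
  induction x with
  | zero => rw [zero_lie, map_zero, zero_lie]
  | add a b ha hb => rw [add_lie, map_add, ha, hb, map_add, add_lie]
  | tmul a l =>
    induction y with
    | zero => rw [lie_zero, map_zero, lie_zero]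
    | add c d hc hd => rw [lie_add, map_add, hc, hd, map_add, lie_add]
    | tmul c m =>
      rw [LieAlgebra.ExtendScalars.bracket_tmul, ht (a * c), ht a, ht c, map_smul, map_smul,
        map_smul, h, smul_lie, lie_smul, smul_smul]

end Ext

section Cancel

variable (A B K : Type*) [CommRing A] [CommRing B] [CommRing K] [Algebra A B] [Algebra A K]
  [Algebra B K] [IsScalarTower A B K]
variable (L : Type*) [LieRing L] [LieAlgebra A L]

theorem cancel_lie (x y : K ⊗[B] (B ⊗[A] L)) :
    (TensorProduct.AlgebraTensorModule.cancelBaseChange A B K K L) ⁅x, y⁆ =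
      ⁅(TensorProduct.AlgebraTensorModule.cancelBaseChange A B K K L) x,
        (TensorProduct.AlgebraTensorModule.cancelBaseChange A B K K L) y⁆ := by
  refine map_lie_of_one_tmul (B := B) (M := B ⊗[A] L)
    (TensorProduct.AlgebraTensorModule.cancelBaseChange A B K K L).toLinearMap ?_ x y
  intro m m'
  let g : (B ⊗[A] L) →ₗ[B] (K ⊗[A] L) :=
    { toFun := fun m => TensorProduct.AlgebraTensorModule.cancelBaseChange A B K K L
        ((1 : K) ⊗ₜ[B] m)
      map_add' := fun a b => by rw [TensorProduct.tmul_add, map_add]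
      map_smul' := fun b a => by
        rw [TensorProduct.tmul_smul, ← algebraMap_smul K b, map_smul, algebraMap_smul]
        rfl }
  have hlie : ∀ (t : B) (x y : K ⊗[A] L), ⁅x, t • y⁆ = t • ⁅x, y⁆ := fun t x y => by
    rw [← algebraMap_smul K t y, lie_smul, algebraMap_smul]
  letI : LieAlgebra B (K ⊗[A] L) := { lie_smul := hlie }
  refine map_lie_of_one_tmul (B := A) (M := L) (K := B) g ?_ m m'
  intro l l'
  simp [g]

/-- `K ⊗_B (B ⊗_A L) ≃ K ⊗_A L` as Lie algebras over `K`. -/
noncomputable def cancelLie : (K ⊗[B] (B ⊗[A] L)) ≃ₗ⁅K⁆ (K ⊗[A] L) :=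
  { TensorProduct.AlgebraTensorModule.cancelBaseChange A B K K L with
    map_lie' := fun {x y} => cancel_lie A B K L x y }

@[simp] theorem cancelLie_tmul (k : K) (b : B) (l : L) :
    cancelLie A B K L (k ⊗ₜ (b ⊗ₜ l)) = (b • k) ⊗ₜ l :=
  TensorProduct.AlgebraTensorModule.cancelBaseChange_tmul A B K k l b

end Cancel

section Rank

variable (A B K : Type*) [CommRing A] [CommRing B] [Field K] [Algebra A B] [Algebra A K]
  [Algebra B K] [IsScalarTower A B K]
variable (L : Type*) [LieRing L] [LieAlgebra A L] [Module.Finite A L]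

theorem rank_cancel : rank K (K ⊗[B] (B ⊗[A] L)) = rank K (K ⊗[A] L) :=
  rank_eq_of_lieEquiv (cancelLie A B K L)

variable {L}

theorem isRegular_cancel (z : K ⊗[B] (B ⊗[A] L)) :
    IsRegular K (cancelLie A B K L z) ↔ IsRegular K z :=
  isRegular_lieEquiv (cancelLie A B K L) z

theorem isRegular_cancel_one (a : L) :
    IsRegular K ((1 : K) ⊗ₜ[B] ((1 : B) ⊗ₜ[A] a)) ↔ IsRegular K ((1 : K) ⊗ₜ[A] a) := by
  rw [← isRegular_cancel, cancelLie_tmul, one_smul]

end Rank

section Tower

variable (A K K' : Type*) [CommRing A] [Field K] [Field K'] [Algebra A K] [Algebra A K']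
  [Algebra K K'] [IsScalarTower A K K']
variable (L : Type*) [LieRing L] [LieAlgebra A L] [Module.Finite A L]

theorem rank_tower : rank K' (K' ⊗[A] L) = rank K (K ⊗[A] L) := by
  rw [← rank_cancel A K K' L, rank_baseChange]

variable {L}

theorem isRegular_tower (a : L) :
    IsRegular K' ((1 : K') ⊗ₜ[A] a) ↔ IsRegular K ((1 : K) ⊗ₜ[A] a) := by
  rw [← isRegular_cancel_one A K K' a, isRegular_baseChange]

end Tower

section Residue

variable {A : Type*} [CommRing A] (p : Ideal A) [p.IsPrime] (K : Type*) [Field K] [Algebra A K]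

/-- The residue field at the kernel of a field valued point. -/
noncomputable abbrev resAlg (h : RingHom.ker (algebraMap A K) = p) : Algebra p.ResidueField K :=
  (Ideal.ResidueField.lift p (algebraMap A K) h.ge (fun x hx => by
    have hx' : x ∉ p := hx
    rw [← h, RingHom.mem_ker] at hx'
    exact isUnit_iff_ne_zero.mpr hx')).toAlgebra

theorem resAlg_tower (h : RingHom.ker (algebraMap A K) = p) :
    letI := resAlg p K h
    IsScalarTower A p.ResidueField K := by
  letI := resAlg p K h
  refine IsScalarTower.of_algebraMap_eq fun x => ?_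
  exact (Ideal.ResidueField.lift_algebraMap p (algebraMap A K) _ _ x).symm

variable (L : Type*) [LieRing L] [LieAlgebra A L] [Module.Finite A L]

theorem rank_fibre (h : RingHom.ker (algebraMap A K) = p) :
    rank K (K ⊗[A] L) = rank p.ResidueField (p.ResidueField ⊗[A] L) := by
  letI := resAlg p K h
  haveI := resAlg_tower p K h
  exact rank_tower A p.ResidueField K L

variable {L}

theorem isRegular_fibre (h : RingHom.ker (algebraMap A K) = p) (a : L) :
    IsRegular K ((1 : K) ⊗ₜ[A] a) ↔ IsRegular p.ResidueField ((1 : p.ResidueField) ⊗ₜ[A] a) := by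
  letI := resAlg p K h
  haveI := resAlg_tower p K h
  exact isRegular_tower A p.ResidueField K a

end Residue

section Change

variable {A : Type*} [CommRing A] (B : Type*) [CommRing B] [Algebra A B]
variable (L : Type*) [LieRing L] [LieAlgebra A L] [Module.Finite A L]

theorem ker_residue (q : Ideal B) [q.IsPrime] :
    RingHom.ker (algebraMap A q.ResidueField) = q.comap (algebraMap A B) := by
  rw [IsScalarTower.algebraMap_eq A B q.ResidueField, ← RingHom.comap_ker,
    Ideal.ker_algebraMap_residueField]

/-- The rank of the fibre of the base change. -/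
theorem rank_comap (q : Ideal B) [q.IsPrime] :
    rank q.ResidueField (q.ResidueField ⊗[B] (B ⊗[A] L)) =
      rank (q.comap (algebraMap A B)).ResidueField
        ((q.comap (algebraMap A B)).ResidueField ⊗[A] L) := by
  rw [rank_cancel A B q.ResidueField L]
  exact rank_fibre _ _ L (ker_residue B q)

variable {L}

theorem isRegular_comap (q : Ideal B) [q.IsPrime] (a : L) :
    IsRegular q.ResidueField ((1 : q.ResidueField) ⊗ₜ[B] ((1 : B) ⊗ₜ[A] a)) ↔
      IsRegular (q.comap (algebraMap A B)).ResidueField
        ((1 : (q.comap (algebraMap A B)).ResidueField) ⊗ₜ[A] a) := by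
  rw [isRegular_cancel_one A B q.ResidueField a]
  exact isRegular_fibre _ _ (ker_residue B q) a

end Change

end K218.Fib
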