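import Mathlib.RingTheory.Support
import Mathlib.RingTheory.LocalRing.Module
import Mathlib.RingTheory.OrzechProperty
import Mathlib.RingTheory.LocalRing.ResidueField.Ideal
import Mathlib.RingTheory.LocalRing.ResidueField.Fiber
import Mathlib.LinearAlgebra.TensorProduct.Tower
import Mathlib.LinearAlgebra.TensorProduct.RightExactness
import Mathlib.Algebra.Module.LocalizedModule.Basic
import Mathlib.Algebra.Module.Projective

/-!
# Endomorphisms of finite modules which are surjective on the fibres over a basic open set
-/

set_option autoImplicit false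

open scoped TensorProduct
open Module

namespace K218.SurjFib

variable {A : Type*} [CommRing A] {M : Type*} [AddCommGroup M] [Module A M]

/-- If `u` is surjective on the fibres over `D(f)`, then the cokernel is killed by powers of `f`. -/
theorem exists_pow_smul_mem_range [Module.Finite A M] (u : M →ₗ[A] M) (f : A)
    (h : ∀ p : PrimeSpectrum A, f ∉ p.asIdeal →
      Function.Surjective (u.baseChange p.asIdeal.ResidueField)) (m : M) :
    ∃ n : ℕ, f ^ n • m ∈ LinearMap.range u := by
  have hsupp : Module.support A (M ⧸ LinearMap.range u) ⊆ PrimeSpectrum.zeroLocus {f} := by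
    intro p hp
    by_contra hf
    have hf' : f ∉ p.asIdeal := by
      intro h
      exact hf (by simpa using h)
    rw [Module.mem_support_iff_nontrivial_residueField_tensorProduct] at hp
    obtain ⟨z, hz⟩ := exists_ne (0 : p.asIdeal.ResidueField ⊗[A] (M ⧸ LinearMap.range u))
    apply hz
    have hsurj : Function.Surjective
        ((LinearMap.range u).mkQ.baseChange p.asIdeal.ResidueField) :=
      LinearMap.lTensor_surjective _ (Submodule.mkQ_surjective _)
    obtain ⟨y, rfl⟩ := hsurj z
    obtain ⟨x, rfl⟩ := h p hf' y
    rw [← LinearMap.comp_apply, ← LinearMap.baseChange_comp]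
    have : (LinearMap.range u).mkQ ∘ₗ u = 0 := by
      ext x
      simp
    rw [this]
    simp
  rw [← LocalizedModule.subsingleton_iff_support_subset] at hsupp
  have h0 : LocalizedModule.mkLinearMap (Submonoid.powers f) (M ⧸ LinearMap.range u)
      (Submodule.Quotient.mk m) = 0 := Subsingleton.elim _ _
  rw [IsLocalizedModule.eq_zero_iff (Submonoid.powers f)] at h0
  obtain ⟨⟨_, n, rfl⟩, hn⟩ := h0
  refine ⟨n, ?_⟩
  rw [Submonoid.smul_def] at hn
  dsimp only at hn
  rw [← Submodule.Quotient.mk_smul, Submodule.Quotient.mk_eq_zero] at hn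
  exact hn

/-- If `u` is surjective on the fibres over `D(f)`, then the kernel is killed by powers of `f`. -/
theorem exists_pow_smul_eq_zero [Module.Finite A M] (u : M →ₗ[A] M) (f : A)
    (h : ∀ p : PrimeSpectrum A, f ∉ p.asIdeal →
      Function.Surjective (u.baseChange p.asIdeal.ResidueField)) (m : M) (hm : u m = 0) :
    ∃ n : ℕ, f ^ n • m = 0 := by
  let S := Submonoid.powers f
  let uf : LocalizedModule S M →ₗ[Localization S] LocalizedModule S M := LocalizedModule.map S u
  have hsurj : Function.Surjective uf := by
    intro z
    induction z using LocalizedModule.induction_on with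
    | h x s =>
      obtain ⟨n, y, hy⟩ := exists_pow_smul_mem_range u f h x
      refine ⟨LocalizedModule.mk y (⟨f ^ n, n, rfl⟩ * s), ?_⟩
      simp only [uf, LocalizedModule.map_mk]
      rw [hy]
      rw [LocalizedModule.mk_eq]
      refine ⟨1, ?_⟩
      simp only [Submonoid.smul_def, one_smul, Submonoid.coe_mul, smul_smul]
      rw [mul_comm]
  have hinj : Function.Injective uf := OrzechProperty.injective_of_surjective_endomorphism uf hsurj
  have h0 : LocalizedModule.mk m (1 : S) = 0 := by
    apply hinj
    simp only [uf, LocalizedModule.map_mk, map_zero]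
    rw [hm]
    exact LocalizedModule.zero_mk 1
  have h1 : LocalizedModule.mkLinearMap S M m = 0 := h0
  rw [IsLocalizedModule.eq_zero_iff S] at h1
  obtain ⟨⟨_, n, rfl⟩, hn⟩ := h1
  exact ⟨n, hn⟩

/-- A submodule with projective quotient is a retract. -/
theorem exists_retraction (H : Submodule A M) [Module.Projective A (M ⧸ H)] :
    ∃ r : M →ₗ[A] H, r ∘ₗ H.subtype = LinearMap.id := by
  obtain ⟨s, hs⟩ := Module.projective_lifting_property H.mkQ LinearMap.id H.mkQ_surjective
  have hs' : ∀ x, H.mkQ (s (H.mkQ x)) = H.mkQ x := fun x => LinearMap.congr_fun hs (H.mkQ x)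
  refine ⟨LinearMap.codRestrict H (LinearMap.id - s ∘ₗ H.mkQ) ?_, ?_⟩
  · intro x
    rw [← Submodule.Quotient.mk_eq_zero, ← Submodule.mkQ_apply]
    simp only [LinearMap.sub_apply, LinearMap.id_apply, LinearMap.comp_apply, map_sub, hs', sub_self]
  · ext x
    have : H.mkQ (x : M) = 0 := by
      rw [Submodule.mkQ_apply, Submodule.Quotient.mk_eq_zero]
      exact x.2
    simp [this]

theorem finite_sub (H : Submodule A M) [Module.Finite A M] [Module.Projective A (M ⧸ H)] :
    Module.Finite A H := by
  obtain ⟨r, hr⟩ := exists_retraction H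
  exact Module.Finite.of_surjective r (fun x => ⟨x, LinearMap.congr_fun hr x⟩)

theorem projective_sub (H : Submodule A M) [Module.Projective A M] [Module.Projective A (M ⧸ H)] :
    Module.Projective A H := by
  obtain ⟨r, hr⟩ := exists_retraction H
  exact Module.Projective.of_split H.subtype r hr

theorem injective_baseChange_sub (H : Submodule A M) [Module.Projective A (M ⧸ H)]
    (K : Type*) [CommRing K] [Algebra A K] : Function.Injective (H.subtype.baseChange K) := by
  obtain ⟨r, hr⟩ := exists_retraction H
  have : r.baseChange K ∘ₗ H.subtype.baseChange K = LinearMap.id := by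
    rw [← LinearMap.baseChange_comp, hr, LinearMap.baseChange_id]
  exact Function.LeftInverse.injective (g := r.baseChange K) (fun x => LinearMap.congr_fun this x)

theorem baseChange_mkQ_eq_zero_iff (H : Submodule A M)
    (K : Type*) [CommRing K] [Algebra A K] (z : K ⊗[A] M) :
    H.mkQ.baseChange K z = 0 ↔ z ∈ H.baseChange K := by
  have hex : Function.Exact (H.subtype.lTensor K) (H.mkQ.lTensor K) :=
    lTensor_exact K (LinearMap.exact_subtype_mkQ H) H.mkQ_surjective
  exact hex z

theorem baseChange_mkQ_surjective (H : Submodule A M)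
    (K : Type*) [CommRing K] [Algebra A K] : Function.Surjective (H.mkQ.baseChange K) :=
  LinearMap.lTensor_surjective _ (Submodule.mkQ_surjective _)

end K218.SurjFib
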