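import Groth.Prelude.Def_W4sga3xiixivxvCartan
import Groth.Agent.SGA3t2b.K218.Fib
import Groth.Agent.SGA3t2b.K218.SurjFib
import Groth.Agent.S2964
import Mathlib.Algebra.Lie.Nilpotent
import Mathlib.Algebra.Lie.EngelSubalgebra
import Mathlib.RingTheory.Artinian.Module

/-!
# Relative Cartan subalgebras and Engel subalgebras of quasi-regular elements
-/

set_option autoImplicit false

universe u

open scoped TensorProduct
open Module LieAlgebra SGA3t2b

namespace K218.Cartan

open K218.RankBC K218.Fib K218.SurjFib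

variable {A : Type u} [CommRing A] {L : Type u} [LieRing L] [LieAlgebra A L]

/-- the map induced by `ad a` on the quotient by a subalgebra containing `a` -/
noncomputable def adQuot (H : LieSubalgebra A L) (a : L) (ha : a ∈ H) :
    (L ⧸ H.toSubmodule) →ₗ[A] (L ⧸ H.toSubmodule) :=
  H.toSubmodule.mapQ H.toSubmodule (ad A L a) (fun x hx => H.lie_mem ha hx)

theorem adQuot_mk (H : LieSubalgebra A L) (a : L) (ha : a ∈ H) (x : L) :
    adQuot H a ha (H.toSubmodule.mkQ x) = H.toSubmodule.mkQ ⁅a, x⁆ := rfl

/-- elements of the subalgebra are killed by powers of `ad a` when the subalgebra is nilpotent -/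
theorem le_engel_of_isNilpotent (H : LieSubalgebra A L) (hnil : LieRing.IsNilpotent H) (a : L)
    (ha : a ∈ H) : H ≤ LieSubalgebra.engel A a := by
  intro x hx
  obtain ⟨n, hn⟩ := LieModule.exists_forall_pow_toEnd_eq_zero A H H
  have h := LinearMap.congr_fun (hn ⟨a, ha⟩) ⟨x, hx⟩
  rw [LieSubalgebra.mem_engel_iff]
  refine ⟨n, ?_⟩
  have h1 : ∀ (m : ℕ) (y : H), (((LieModule.toEnd A H H ⟨a, ha⟩) ^ m) y : L) =
      ((ad A L a) ^ m) (y : L) := by
    intro m
    induction m with
    | zero => intro y; simp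
    | succ m ih => intro y; rw [pow_succ, pow_succ]; exact ih _
  have h2 := h1 n ⟨x, hx⟩
  rw [h] at h2
  simpa using h2.symm

/-- the fibre of a subset of the Engel subalgebra lies in the Engel subalgebra of the fibre -/
theorem baseChange_le_engel (H : Submodule A L) (a : L) (K : Type u) [Field K] [Algebra A K]
    (h : H ≤ (LieSubalgebra.engel A a).toSubmodule) :
    H.baseChange K ≤ (LieSubalgebra.engel K ((1 : K) ⊗ₜ[A] a)).toSubmodule := by
  rw [Submodule.baseChange_eq_span, Submodule.span_le]
  rintro _ ⟨x, hx, rfl⟩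
  have hx' := h hx
  rw [LieSubalgebra.mem_toSubmodule, LieSubalgebra.mem_engel_iff] at hx'
  obtain ⟨n, hn⟩ := hx'
  rw [SetLike.mem_coe, LieSubalgebra.mem_toSubmodule, LieSubalgebra.mem_engel_iff]
  refine ⟨n, ?_⟩
  rw [TensorProduct.mk_apply, ad_baseChange_tmul, ← LinearMap.baseChange_pow,
    LinearMap.baseChange_tmul, hn, TensorProduct.tmul_zero]

/-- Over a field: `ad a` is surjective modulo the Engel subalgebra. -/
theorem exists_engel_add {K : Type*} {V : Type*} [Field K] [LieRing V] [LieAlgebra K V]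
    [Module.Finite K V] (a x : V) :
    ∃ y ∈ LieSubalgebra.engel K a, ∃ z, x = y + ⁅a, z⁆ := by
  obtain ⟨n, hn⟩ := Filter.eventually_atTop.mp
    (LinearMap.eventually_codisjoint_ker_pow_range_pow (ad K V a))
  have h := (hn (n + 1) (Nat.le_succ n)).eq_top
  have hx : x ∈ LinearMap.ker ((ad K V a) ^ (n + 1)) ⊔ LinearMap.range ((ad K V a) ^ (n + 1)) := by
    rw [h]; trivial
  obtain ⟨y, hy, _, ⟨w, rfl⟩, hsum⟩ := Submodule.mem_sup.mp hx
  refine ⟨y, ?_, ((ad K V a) ^ n) w, ?_⟩
  · rw [LieSubalgebra.mem_engel_iff]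
    exact ⟨n + 1, hy⟩
  · rw [← hsum, pow_succ']
    rfl

section Key

variable [Module.Finite A L]

/-- Fibrewise surjectivity of `ad a` on the quotient. -/
theorem surjective_adQuot_fibre (H : LieSubalgebra A L) (a : L) (ha : a ∈ H)
    (hle : H ≤ LieSubalgebra.engel A a) (p : PrimeSpectrum A)
    (hrk : Module.finrank p.asIdeal.ResidueField (fibreSubmodule p H) =
      LieAlgebra.rank p.asIdeal.ResidueField (p.asIdeal.ResidueField ⊗[A] L))
    (hreg : LieAlgebra.IsRegular p.asIdeal.ResidueField ((1 : p.asIdeal.ResidueField) ⊗ₜ[A] a)) :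
    Function.Surjective ((adQuot H a ha).baseChange p.asIdeal.ResidueField) := by
  have h1 : fibreSubmodule p H ≤
      (LieSubalgebra.engel p.asIdeal.ResidueField
        ((1 : p.asIdeal.ResidueField) ⊗ₜ[A] a)).toSubmodule :=
    baseChange_le_engel H.toSubmodule a p.asIdeal.ResidueField hle
  have h2 : fibreSubmodule p H = (LieSubalgebra.engel p.asIdeal.ResidueField
        ((1 : p.asIdeal.ResidueField) ⊗ₜ[A] a)).toSubmodule := by
    apply Submodule.eq_of_le_of_finrank_eq h1
    rw [hrk]
    exact ((isRegular_iff_finrank_engel_eq_rank _ _).mp hreg).symm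
  intro z
  obtain ⟨x, rfl⟩ := baseChange_mkQ_surjective H.toSubmodule p.asIdeal.ResidueField z
  obtain ⟨y, hy, w, rfl⟩ := exists_engel_add (K := p.asIdeal.ResidueField)
    ((1 : p.asIdeal.ResidueField) ⊗ₜ[A] a) x
  refine ⟨H.toSubmodule.mkQ.baseChange p.asIdeal.ResidueField w, ?_⟩
  have hy' : H.toSubmodule.mkQ.baseChange p.asIdeal.ResidueField y = 0 := by
    rw [baseChange_mkQ_eq_zero_iff]
    change y ∈ fibreSubmodule p H
    rw [h2]
    exact hy
  rw [map_add, hy', zero_add]
  have h3 : (adQuot H a ha) ∘ₗ H.toSubmodule.mkQ = H.toSubmodule.mkQ ∘ₗ (ad A L a) := by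
    ext x; rfl
  rw [← LinearMap.comp_apply, ← LinearMap.baseChange_comp, h3, LinearMap.baseChange_comp,
    LinearMap.comp_apply, ← ad_baseChange_tmul]
  rfl

/-- The nilpotency of a relative Cartan subalgebra. -/
theorem isNilpotent_of_isCartanRel [Module.Projective A L] (H : LieSubalgebra A L)
    (hH : IsCartanRel H) : LieRing.IsNilpotent H := by
  haveI := hH.1
  haveI : Module.Finite A H := finite_sub H.toSubmodule
  haveI : Module.Projective A H := projective_sub H.toSubmodule
  haveI : Module.FinitePresentation A H := Module.finitePresentation_of_projective A H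
  exact (Groth.Agent.S2964.result (A := A) (L := H)).1 (fun p => (hH.2 p).1)

/-- Consequences over a basic open set on which `a` is regular. -/
theorem key_local [Module.Projective A L] (H : LieSubalgebra A L) (hH : IsCartanRel H) (a : L)
    (ha : a ∈ H) (f : A) (hreg : ∀ p : PrimeSpectrum A, f ∉ p.asIdeal →
      LieAlgebra.IsRegular p.asIdeal.ResidueField ((1 : p.asIdeal.ResidueField) ⊗ₜ[A] a)) :
    H ≤ LieSubalgebra.engel A a ∧
    (∀ z : L, ⁅a, z⁆ ∈ H → ∃ n : ℕ, f ^ n • z ∈ H) ∧
    (∀ y : L, ∃ n : ℕ, ∃ z : L, ⁅a, z⁆ - f ^ n • y ∈ H) := by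
  have hle := le_engel_of_isNilpotent H (isNilpotent_of_isCartanRel H hH) a ha
  have hs : ∀ p : PrimeSpectrum A, f ∉ p.asIdeal →
      Function.Surjective ((adQuot H a ha).baseChange p.asIdeal.ResidueField) :=
    fun p hp => surjective_adQuot_fibre H a ha hle p (hH.2 p).2.2 (hreg p hp)
  refine ⟨hle, ?_, ?_⟩
  · intro z hz
    obtain ⟨n, hn⟩ := exists_pow_smul_eq_zero (adQuot H a ha) f hs (H.toSubmodule.mkQ z) (by
      rw [adQuot_mk, Submodule.mkQ_apply, Submodule.Quotient.mk_eq_zero]
      exact hz)
    refine ⟨n, ?_⟩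
    rw [← map_smul, Submodule.mkQ_apply, Submodule.Quotient.mk_eq_zero] at hn
    exact hn
  · intro y
    obtain ⟨n, z, hz⟩ := exists_pow_smul_mem_range (adQuot H a ha) f hs (H.toSubmodule.mkQ y)
    obtain ⟨z, rfl⟩ := H.toSubmodule.mkQ_surjective z
    refine ⟨n, z, ?_⟩
    rw [adQuot_mk, ← map_smul] at hz
    exact (Submodule.Quotient.eq _).mp hz

/-- elements of the Engel subalgebra are carried into `H` by powers of `f` -/
theorem exists_pow_smul_mem_of_mem_engel [Module.Projective A L] (H : LieSubalgebra A L)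
    (hH : IsCartanRel H) (a : L)
    (ha : a ∈ H) (f : A) (hreg : ∀ p : PrimeSpectrum A, f ∉ p.asIdeal →
      LieAlgebra.IsRegular p.asIdeal.ResidueField ((1 : p.asIdeal.ResidueField) ⊗ₜ[A] a))
    (y : L) (hy : y ∈ LieSubalgebra.engel A a) : ∃ n : ℕ, f ^ n • y ∈ H := by
  obtain ⟨-, h2, -⟩ := key_local H hH a ha f hreg
  rw [LieSubalgebra.mem_engel_iff] at hy
  obtain ⟨m, hm⟩ := hy
  have : ∀ (m : ℕ) (y : L), (∃ j : ℕ, f ^ j • ((ad A L a) ^ m) y ∈ H) →
      ∃ n : ℕ, f ^ n • y ∈ H := by
    intro m
    induction m with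
    | zero => intro y hy; simpa using hy
    | succ m ih =>
      rintro y ⟨j, hj⟩
      apply ih
      rw [pow_succ', Module.End.mul_apply, ad_apply, ← lie_smul] at hj
      obtain ⟨n, hn⟩ := h2 _ hj
      exact ⟨n + j, by rw [pow_add, mul_smul]; exact hn⟩
  exact this m y ⟨0, by rw [hm, smul_zero]; exact zero_mem H⟩

theorem eq_engel_of_isCartanRel [Module.Projective A L] (a : L) (ha : IsQuasiRegular A L a)
    (H : LieSubalgebra A L) (hH : IsCartanRel H) (haH : a ∈ H) :
    H = LieSubalgebra.engel A a := by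
  apply le_antisymm
  · exact (key_local H hH a haH 1 (fun p _ => ha p)).1
  · intro y hy
    obtain ⟨n, hn⟩ := exists_pow_smul_mem_of_mem_engel H hH a haH 1 (fun p _ => ha p) y hy
    simpa using hn

/-- The Engel subalgebra of a quasi-regular element is a relative Cartan subalgebra as soon as the
quotient is projective and `ad a` is bijective on it. -/
theorem isCartanRel_engel [Module.Projective A L] (a : L) (ha : IsQuasiRegular A L a)
    (hproj : Module.Projective A (L ⧸ (LieSubalgebra.engel A a).toSubmodule))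
    (hinj : ∀ z : L, ⁅a, z⁆ ∈ LieSubalgebra.engel A a → z ∈ LieSubalgebra.engel A a)
    (hsurj : ∀ y : L, ∃ z : L, ⁅a, z⁆ - y ∈ LieSubalgebra.engel A a) :
    IsCartanRel (LieSubalgebra.engel A a) := by
  refine ⟨hproj, fun p => ?_⟩
  set H := LieSubalgebra.engel A a with hHdef
  have haH : a ∈ H := LieSubalgebra.self_mem_engel A a
  set K := p.asIdeal.ResidueField with hK
  set a' : K ⊗[A] L := (1 : K) ⊗ₜ[A] a with ha'
  have hbij : Function.Bijective (adQuot H a haH) := by
    constructor
    · rw [injective_iff_map_eq_zero]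
      intro z hz
      obtain ⟨z, rfl⟩ := H.toSubmodule.mkQ_surjective z
      rw [adQuot_mk, Submodule.mkQ_apply, Submodule.Quotient.mk_eq_zero] at hz
      rw [Submodule.mkQ_apply, Submodule.Quotient.mk_eq_zero]
      exact hinj z hz
    · intro y
      obtain ⟨y, rfl⟩ := H.toSubmodule.mkQ_surjective y
      obtain ⟨z, hz⟩ := hsurj y
      exact ⟨H.toSubmodule.mkQ z, by
        rw [adQuot_mk]
        exact (Submodule.Quotient.eq _).mpr hz⟩
  have hinjK : Function.Injective ((adQuot H a haH).baseChange K) := by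
    let e := LinearEquiv.ofBijective _ hbij
    have : (e.symm.toLinearMap.baseChange K) ∘ₗ ((adQuot H a haH).baseChange K) =
        LinearMap.id := by
      rw [← LinearMap.baseChange_comp]
      have : e.symm.toLinearMap ∘ₗ (adQuot H a haH) = LinearMap.id := by
        ext x
        exact e.symm_apply_apply _
      rw [this, LinearMap.baseChange_id]
    exact Function.LeftInverse.injective (fun x => LinearMap.congr_fun this x)
  have hcomm : ∀ x : K ⊗[A] L, (adQuot H a haH).baseChange K (H.toSubmodule.mkQ.baseChange K x) =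
      H.toSubmodule.mkQ.baseChange K ⁅a', x⁆ := by
    intro x
    have h3 : (adQuot H a haH) ∘ₗ H.toSubmodule.mkQ = H.toSubmodule.mkQ ∘ₗ (ad A L a) := by
      ext x; rfl
    rw [← LinearMap.comp_apply, ← LinearMap.baseChange_comp, h3, LinearMap.baseChange_comp,
      LinearMap.comp_apply, ← ad_baseChange_tmul]
    rfl
  have hfib : fibreSubmodule p H = (LieSubalgebra.engel K a').toSubmodule := by
    apply le_antisymm
    · exact baseChange_le_engel H.toSubmodule a K le_rfl
    · intro x hx
      rw [LieSubalgebra.mem_toSubmodule, LieSubalgebra.mem_engel_iff] at hx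
      obtain ⟨n, hn⟩ := hx
      change x ∈ H.toSubmodule.baseChange K
      rw [← baseChange_mkQ_eq_zero_iff]
      have : ∀ (n : ℕ) (x : K ⊗[A] L), H.toSubmodule.mkQ.baseChange K (((ad K _ a') ^ n) x) = 0 →
          H.toSubmodule.mkQ.baseChange K x = 0 := by
        intro n
        induction n with
        | zero => intro x hx; simpa using hx
        | succ n ih =>
          intro x hx
          rw [pow_succ', Module.End.mul_apply, ad_apply, ← hcomm] at hx
          apply ih
          apply hinjK
          rw [hx, map_zero]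
      exact this n x (by rw [hn, map_zero])
  refine ⟨?_, ?_, ?_⟩
  · haveI hnil : LieRing.IsNilpotent (LieSubalgebra.engel K a') :=
      isNilpotent_engel_of_isRegular a' (ha p)
    let i : (K ⊗[A] H) →ₗ[K] (K ⊗[A] L) := H.toSubmodule.subtype.baseChange K
    have hi : Function.Injective i := injective_baseChange_sub H.toSubmodule K
    have hmem : ∀ x, i x ∈ LieSubalgebra.engel K a' := by
      intro x
      rw [← LieSubalgebra.mem_toSubmodule, ← hfib]
      exact ⟨x, rfl⟩
    have hlie : ∀ x y, i ⁅x, y⁆ = ⁅i x, i y⁆ := by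
      intro x y
      refine map_lie_of_one_tmul (B := A) (M := H) i ?_ x y
      intro m m'
      simp [i]
    let j : (K ⊗[A] H) →ₗ⁅K⁆ (LieSubalgebra.engel K a') :=
      { toFun := fun x => ⟨i x, hmem x⟩
        map_add' := fun x y => by ext; simp
        map_smul' := fun c x => by ext; simp
        map_lie' := fun {x y} => by
          ext
          exact hlie x y }
    have hj : Function.Injective j := fun x y hxy => hi (congrArg Subtype.val hxy)
    exact hj.lieAlgebra_isNilpotent
  · intro x hx
    have h1 := hx a' (Submodule.tmul_mem_baseChange_of_mem (1 : K) haH)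
    rw [hfib] at h1 ⊢
    rw [LieSubalgebra.mem_toSubmodule] at h1 ⊢
    rw [← lie_skew, neg_mem_iff (G := K ⊗[A] L), LieSubalgebra.mem_engel_iff] at h1
    obtain ⟨n, hn⟩ := h1
    rw [LieSubalgebra.mem_engel_iff]
    refine ⟨n + 1, ?_⟩
    rw [pow_succ, Module.End.mul_apply]
    exact hn
  · rw [hfib]
    exact (isRegular_iff_finrank_engel_eq_rank K a').mp (ha p)

end Key

section Equiv

variable {L' : Type u} [LieRing L'] [LieAlgebra A L']

/-- base change of a Lie algebra isomorphism over a ring -/
noncomputable def lieEquivBC (K : Type u) [CommRing K] [Algebra A K] (e : L ≃ₗ⁅A⁆ L') :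
    (K ⊗[A] L) ≃ₗ⁅K⁆ (K ⊗[A] L') :=
  { e.toLinearEquiv.baseChange A K L L' with
    map_lie' := fun {x y} => map_lie_of_one_tmul (B := A) (M := L)
      (e.toLinearEquiv.baseChange A K L L').toLinearMap (fun m m' => by
        rw [LinearEquiv.coe_coe, LinearEquiv.baseChange_tmul, LinearEquiv.baseChange_tmul,
          LinearEquiv.baseChange_tmul, LieAlgebra.ExtendScalars.bracket_tmul, mul_one]
        congr 1
        exact LieEquiv.map_lie e m m') x y }

theorem mem_engel_lieEquiv (e : L ≃ₗ⁅A⁆ L') (x y : L) :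
    e y ∈ LieSubalgebra.engel A (e x) ↔ y ∈ LieSubalgebra.engel A x := by
  rw [LieSubalgebra.mem_engel_iff, LieSubalgebra.mem_engel_iff]
  have h : ∀ n : ℕ, ((ad A L' (e x)) ^ n) (e y) = e (((ad A L x) ^ n) y) := by
    intro n
    induction n with
    | zero => simp
    | succ n ih =>
      rw [pow_succ', pow_succ', Module.End.mul_apply, Module.End.mul_apply, ih, ad_apply, ad_apply,
        LieEquiv.map_lie]
  simp only [h, EmbeddingLike.map_eq_zero_iff]

end Equiv

end K218.Cartan
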