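import Groth.Agent.SGA3t2b.K218.RankBC
import Mathlib.Algebra.Lie.CartanSubalgebra
import Mathlib.Algebra.Lie.CartanExists
import Mathlib.Algebra.Lie.Engel
import Mathlib.RingTheory.Finiteness.Nilpotent

/-!
# Over an infinite field a nilpotent self-normalizing subalgebra is the Engel subalgebra of one of its elements
-/

set_option autoImplicit false

open Module LieAlgebra

namespace K218.Infinite

variable {K V : Type*} [Field K] [LieRing V] [LieAlgebra K V] [Module.Finite K V]

theorem exists_engel_eq [Infinite K] (U : LieSubalgebra K V) (hnil : LieRing.IsNilpotent U)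
    (hself : ∀ x, (∀ y ∈ U, ⁅x, y⁆ ∈ U) → x ∈ U) :
    ∃ x ∈ U, LieSubalgebra.engel K x = U := by
  have hU : ∀ x ∈ U, U ≤ LieSubalgebra.engel K x := by
    intro a ha x hx
    obtain ⟨n, hn⟩ := LieModule.exists_forall_pow_toEnd_eq_zero K U U
    have h := LinearMap.congr_fun (hn ⟨a, ha⟩) ⟨x, hx⟩
    rw [LieSubalgebra.mem_engel_iff]
    refine ⟨n, ?_⟩
    have h1 : ∀ (m : ℕ) (y : U), (((LieModule.toEnd K U U ⟨a, ha⟩) ^ m) y : V) =
        ((ad K V a) ^ m) (y : V) := by
      intro m
      induction m with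
      | zero => intro y; simp
      | succ m ih => intro y; rw [pow_succ, pow_succ]; exact ih _
    have h2 := h1 n ⟨x, hx⟩
    rw [h] at h2
    simpa using h2.symm
  -- an element with minimal Engel subalgebra
  obtain ⟨x, hx⟩ : ∃ x : U, ∀ y : U, finrank K (LieSubalgebra.engel K (x : V)) ≤
      finrank K (LieSubalgebra.engel K (y : V)) := by
    haveI : Nonempty U := ⟨0⟩
    exact ⟨Function.argmin (fun y : U => finrank K (LieSubalgebra.engel K (y : V))),
      fun y => Function.argmin_le (fun y : U => finrank K (LieSubalgebra.engel K (y : V))) y⟩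
  have hcard : finrank K V ≤ Cardinal.mk K :=
    Cardinal.natCast_le_aleph0.trans <| Cardinal.infinite_iff.mp ‹Infinite K›
  have hmin : ∀ y ∈ U, LieSubalgebra.engel K (x : V) ≤ LieSubalgebra.engel K y := by
    intro y hy
    set Ex : {LieSubalgebra.engel K z | z ∈ U} := ⟨LieSubalgebra.engel K (x : V), x, x.2, rfl⟩
    suffices IsBot Ex from @this ⟨LieSubalgebra.engel K y, y, hy, rfl⟩
    apply engel_isBot_of_isMin hcard U Ex (hU x x.2)
    rintro ⟨_, z, hz, rfl⟩ hzx
    suffices LieSubalgebra.engel K z = LieSubalgebra.engel K (x : V) from this.ge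
    apply LieSubalgebra.toSubmodule_injective
    exact Submodule.eq_of_le_of_finrank_le hzx (hx ⟨z, hz⟩)
  refine ⟨x, x.2, le_antisymm ?_ (hU x x.2)⟩
  let E : LieSubmodule K U V :=
    { LieSubalgebra.engel K (x : V) with
      lie_mem := by
        rintro ⟨u, hu⟩ y hy
        exact (LieSubalgebra.engel K (x : V)).lie_mem (hU x x.2 hu) hy }
  have hEnil : LieModule.IsNilpotent U E := by
    rw [LieModule.isNilpotent_iff_forall (R := K)]
    rintro ⟨y, hy⟩
    rw [Module.End.isNilpotent_iff_of_finite]
    rintro ⟨z, hz⟩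
    have hz' : z ∈ LieSubalgebra.engel K y := hmin y hy hz
    rw [LieSubalgebra.mem_engel_iff] at hz'
    obtain ⟨n, hn⟩ := hz'
    refine ⟨n, ?_⟩
    have h1 : ∀ (m : ℕ) (w : E), (((LieModule.toEnd K U E ⟨y, hy⟩) ^ m) w : V) =
        ((ad K V y) ^ m) (w : V) := by
      intro m
      induction m with
      | zero => intro y; simp
      | succ m ih => intro y; rw [pow_succ, pow_succ]; exact ih _
    ext
    rw [h1, hn]
    rfl
  obtain ⟨k, hk⟩ := (E.isNilpotent_iff_exists_self_le_ucs).mp hEnil
  have hnorm : U.toLieSubmodule.normalizer = U.toLieSubmodule := by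
    apply le_antisymm _ (LieSubmodule.le_normalizer _)
    intro z hz
    rw [LieSubmodule.mem_normalizer] at hz
    apply hself
    intro y hy
    rw [← lie_skew]
    exact neg_mem (hz ⟨y, hy⟩)
  exact hk.trans (LieSubmodule.ucs_le_of_normalizer_eq_self hnorm k)

end K218.Infinite
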