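import Groth.Agent.SGA3t2b.K218.Cartan
import Groth.Agent.SGA3t2b.K218.LocFree
import Mathlib.RingTheory.Spectrum.Prime.FreeLocus
import Mathlib.RingTheory.Ideal.GoingDown
import Mathlib.RingTheory.Flat.FaithfullyFlat.Algebra

/-!
# The rank of the fibres is locally constant when relative Cartan subalgebras exist fpqc locally
-/

set_option autoImplicit false

universe u

open scoped TensorProduct
open Module LieAlgebra SGA3t2b

namespace K218.RankLC

open K218.RankBC K218.Fib K218.SurjFib K218.Cartan K218.LocFree

variable {A : Type u} [CommRing A] {L : Type u} [LieRing L] [LieAlgebra A L] [Module.Finite A L]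
  [Module.Projective A L]

theorem rank_eq_rankAtStalk (H : LieSubalgebra A L) (hH : IsCartanRel H) (p : PrimeSpectrum A) :
    LieAlgebra.rank p.asIdeal.ResidueField (p.asIdeal.ResidueField ⊗[A] L) =
      Module.rankAtStalk (R := A) H p := by
  haveI := hH.1
  haveI : Module.Finite A H := finite_sub H.toSubmodule
  haveI : Module.Projective A H := projective_sub H.toSubmodule
  rw [← (hH.2 p).2.2, Module.rankAtStalk_eq]
  have hinj := injective_baseChange_sub H.toSubmodule p.asIdeal.ResidueField
  exact (LinearEquiv.ofInjective _ hinj).finrank_eq.symm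

theorem isLocallyConstant_rank (H : LieSubalgebra A L) (hH : IsCartanRel H) :
    IsLocallyConstant (fun p : PrimeSpectrum A =>
      LieAlgebra.rank p.asIdeal.ResidueField (p.asIdeal.ResidueField ⊗[A] L)) := by
  haveI := hH.1
  haveI : Module.Finite A H := finite_sub H.toSubmodule
  haveI : Module.Projective A H := projective_sub H.toSubmodule
  haveI : Module.FinitePresentation A H := Module.finitePresentation_of_projective A H
  have : (fun p : PrimeSpectrum A =>
      LieAlgebra.rank p.asIdeal.ResidueField (p.asIdeal.ResidueField ⊗[A] L)) =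
      Module.rankAtStalk (R := A) H := funext (rank_eq_rankAtStalk H hH)
  rw [this]
  exact Module.isLocallyConstant_rankAtStalk

/-- the condition (C₀) -/
theorem locConst_iff (r : PrimeSpectrum A → ℕ) (h : IsLocallyConstant r) (p : PrimeSpectrum A) :
    ∃ f : A, f ∉ p.asIdeal ∧ ∀ q : PrimeSpectrum A, f ∉ q.asIdeal → r q = r p := by
  have ho : IsOpen {q | r q = r p} := h.isOpen_fiber (r p)
  obtain ⟨_, ⟨f, rfl⟩, hp, hle⟩ :=
    PrimeSpectrum.isTopologicalBasis_basic_opens.exists_subset_of_mem_open
      (show p ∈ {q | r q = r p} from rfl) ho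
  exact ⟨f, hp, fun q hq => hle hq⟩

theorem rank_locConst (B : Type u) [CommRing B] [Algebra A B] [Module.FaithfullyFlat A B]
    (H : LieSubalgebra B (B ⊗[A] L)) (hH : IsCartanRel H) (p : PrimeSpectrum A) :
    ∃ f : A, f ∉ p.asIdeal ∧ ∀ q : PrimeSpectrum A, f ∉ q.asIdeal →
        LieAlgebra.rank q.asIdeal.ResidueField (q.asIdeal.ResidueField ⊗[A] L) =
          LieAlgebra.rank p.asIdeal.ResidueField (p.asIdeal.ResidueField ⊗[A] L) := by
  refine locConst_iff (fun q : PrimeSpectrum A =>
    LieAlgebra.rank q.asIdeal.ResidueField (q.asIdeal.ResidueField ⊗[A] L)) ?_ p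
  have hq : Topology.IsQuotientMap (PrimeSpectrum.comap (algebraMap A B)) :=
    PrimeSpectrum.isQuotientMap_of_generalizingMap
      PrimeSpectrum.comap_surjective_of_faithfullyFlat
      (Algebra.HasGoingDown.iff_generalizingMap_primeSpectrumComap.mp inferInstance)
  have h1 := isLocallyConstant_rank H hH
  intro s
  rw [← hq.isOpen_preimage]
  have h2 := h1 s
  convert h2 using 1
  ext q'
  simp only [Set.mem_preimage]
  rw [rank_comap B L q'.asIdeal]
  rfl

end K218.RankLC
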