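import Groth.Agent.SGA3t2b.K218.Reduced
import Mathlib.RingTheory.Nilpotent.Lemmas
import Mathlib.RingTheory.LocalRing.Module
import Mathlib.RingTheory.LocalProperties.Reduced
import Mathlib.RingTheory.LocalRing.ResidueField.Ideal

/-!
# Over a reduced base with fibres of locally constant rank: the characteristic polynomials of `ad`
-/

set_option autoImplicit false

universe u

open scoped TensorProduct
open Module LieAlgebra SGA3t2b

namespace K218.Reduced2

open K218.RankBC K218.Fib K218.SurjFib K218.Cartan K218.LocFree K218.Reduced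

attribute [local instance 100] LieRing.ofAssociativeRing

theorem charpoly_ad_equiv' {B : Type*} [CommRing B] {V V' : Type*} [LieRing V] [LieAlgebra B V]
    [LieRing V'] [LieAlgebra B V'] [Module.Finite B V] [Module.Free B V] [Module.Finite B V']
    [Module.Free B V'] (e : V ≃ₗ⁅B⁆ V') (x : V) :
    (ad B V' (e x)).charpoly = (ad B V x).charpoly := by
  have h : ad B V' (e x) = (e.toLinearEquiv.conj (ad B V x)) := by
    ext y
    rw [LinearEquiv.conj_apply, LinearMap.comp_apply, LinearMap.comp_apply, ad_apply]
    obtain ⟨z, rfl⟩ := e.toLinearEquiv.surjective y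
    rw [LinearEquiv.coe_coe, LinearEquiv.coe_coe, LinearEquiv.symm_apply_apply, ad_apply]
    exact (LieEquiv.map_lie e x z).symm
  rw [h, LinearEquiv.charpoly_conj]

/-- Over a reduced ring with constant fibre rank `r` the low coefficients of the generic
characteristic polynomial vanish. -/
theorem polyCharpoly_coeff_eq_zero {R : Type u} [CommRing R] [IsReduced R] {V : Type u} [LieRing V]
    [LieAlgebra R V] [Module.Finite R V] [Module.Free R V] {ι : Type*} [Fintype ι] [DecidableEq ι]
    (b : Basis ι R V) (r : ℕ)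
    (hr : ∀ q : PrimeSpectrum R, LieAlgebra.rank q.asIdeal.ResidueField
      (q.asIdeal.ResidueField ⊗[R] V) = r) (i : ℕ) (hi : i < r) :
    (LinearMap.polyCharpoly (LieHom.toLinearMap (ad R V)) b).coeff i = 0 := by
  ext m
  rw [MvPolynomial.coeff_zero]
  have h1 : ∀ q : PrimeSpectrum R,
      MvPolynomial.coeff m ((LinearMap.polyCharpoly (LieHom.toLinearMap (ad R V)) b).coeff i) ∈
        q.asIdeal := by
    intro q
    have h2 := hr q
    rw [rank_baseChange_eq q.asIdeal.ResidueField V b] at h2
    have h3 := Polynomial.coeff_eq_zero_of_lt_natTrailingDegree (hi.trans_eq h2.symm)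
    rw [Polynomial.coeff_map] at h3
    have h4 := congrArg (MvPolynomial.coeff m) h3
    rw [MvPolynomial.coeff_map, MvPolynomial.coeff_zero, Ideal.algebraMap_residueField_eq_zero] at h4
    exact h4
  have h2 : MvPolynomial.coeff m
      ((LinearMap.polyCharpoly (LieHom.toLinearMap (ad R V)) b).coeff i) ∈ nilradical R := by
    rw [nilradical_eq_sInf, Ideal.mem_sInf]
    intro J hJ
    exact h1 ⟨J, hJ⟩
  rw [nilradical_eq_zero] at h2
  exact h2

variable {A : Type u} [CommRing A] {L : Type u} [LieRing L] [LieAlgebra A L] [Module.Finite A L]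
  [Module.Projective A L]

theorem free_of_local {B : Type*} [CommRing B] [IsLocalRing B] {M : Type*} [AddCommGroup M]
    [Module B M] [Module.Finite B M] [Module.Projective B M] : Module.Free B M :=
  Module.free_of_flat_of_isLocalRing

/-- The characteristic polynomial at a prime of an algebra. -/
theorem charpoly_local [IsReduced A]
    (hC0 : ∀ p : PrimeSpectrum A, ∃ f : A, f ∉ p.asIdeal ∧ ∀ q : PrimeSpectrum A, f ∉ q.asIdeal →
        LieAlgebra.rank q.asIdeal.ResidueField (q.asIdeal.ResidueField ⊗[A] L) =
          LieAlgebra.rank p.asIdeal.ResidueField (p.asIdeal.ResidueField ⊗[A] L))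
    (A' : Type u) [CommRing A'] [Algebra A A'] (a' : A' ⊗[A] L)
    (q' : Ideal A') [q'.IsPrime]
    (hreg : LieAlgebra.IsRegular q'.ResidueField ((1 : q'.ResidueField) ⊗ₜ[A'] a'))
    [Module.Free (Localization.AtPrime q') (Localization.AtPrime q' ⊗[A'] (A' ⊗[A] L))] :
    let r := LieAlgebra.rank (q'.comap (algebraMap A A')).ResidueField
      ((q'.comap (algebraMap A A')).ResidueField ⊗[A] L)
    (∀ i < r, (ad (Localization.AtPrime q') (Localization.AtPrime q' ⊗[A'] (A' ⊗[A] L))
      (1 ⊗ₜ a')).charpoly.coeff i = 0) ∧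
    IsUnit ((ad (Localization.AtPrime q') (Localization.AtPrime q' ⊗[A'] (A' ⊗[A] L))
      (1 ⊗ₜ a')).charpoly.coeff r) := by
  intro r
  set B := Localization.AtPrime q' with hB
  constructor
  · intro i hi
    let p := q'.comap (algebraMap A A')
    let R := Localization.AtPrime p
    letI : Algebra R B := (Localization.localRingHom p q' (algebraMap A A') rfl).toAlgebra
    haveI : IsScalarTower A R B := by
      refine IsScalarTower.of_algebraMap_eq fun x => ?_
      have h1 : algebraMap R B (algebraMap A R x) = algebraMap A' B (algebraMap A A' x) :=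
        Localization.localRingHom_to_map p q' (algebraMap A A') rfl x
      rw [h1]
      exact IsScalarTower.algebraMap_apply A A' B x
    haveI : Module.Free R (R ⊗[A] L) := free_of_local
    haveI : Module.Free B (B ⊗[A] L) := free_of_local
    haveI : IsReduced R := isReduced_localizationPreserves p.primeCompl R inferInstance
    obtain ⟨f, hf, hfr⟩ := hC0 ⟨p, inferInstance⟩
    have hrk : ∀ q : PrimeSpectrum R, LieAlgebra.rank q.asIdeal.ResidueField
        (q.asIdeal.ResidueField ⊗[R] (R ⊗[A] L)) = r := by
      intro q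
      rw [rank_comap R L q.asIdeal]
      refine hfr (PrimeSpectrum.comap (algebraMap A R) q) ?_
      intro hmem
      have hu : IsUnit (algebraMap A R f) := IsLocalization.map_units R (⟨f, hf⟩ : p.primeCompl)
      exact q.2.ne_top (Ideal.eq_top_of_isUnit_mem _ hmem hu)
    let b := Module.Free.chooseBasis R (R ⊗[A] L)
    have hP := polyCharpoly_coeff_eq_zero b r hrk i hi
    let e1 := cancelLie A A' B L
    let e2 := cancelLie A R B L
    have h1 := charpoly_ad_equiv' e1 ((1 : B) ⊗ₜ[A'] a')
    have h2 := charpoly_ad_equiv' e2.symm (e1 ((1 : B) ⊗ₜ[A'] a'))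
    rw [← h1, ← h2, charpoly_ad_baseChange B (R ⊗[A] L) b, Polynomial.coeff_map,
      Polynomial.coeff_map, hP, map_zero, map_zero]
  · have h1 := (isRegular_iff_coeff A' B q'.ResidueField (A' ⊗[A] L) ((1 : B) ⊗ₜ[A'] a')).mp
      ((isRegular_cancel_one A' B q'.ResidueField a').mpr hreg)
    rw [rank_comap A' L q'] at h1
    have h2 := IsLocalRing.ResidueField.algebraMap_eq B
    rw [← IsLocalRing.residue_ne_zero_iff_isUnit]
    exact h1

omit [Module.Projective A L] in
theorem rank_le_of_surjective (n : ℕ) (g : (Fin n → A) →ₗ[A] L) (hg : Function.Surjective g)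
    (p : Ideal A) [p.IsPrime] :
    LieAlgebra.rank p.ResidueField (p.ResidueField ⊗[A] L) ≤ n := by
  refine (LieAlgebra.rank_le_finrank p.ResidueField (p.ResidueField ⊗[A] L)).trans ?_
  have h1 : Function.Surjective (g.baseChange p.ResidueField) :=
    LinearMap.lTensor_surjective _ hg
  have h2 := LinearMap.finrank_le_finrank_of_surjective h1
  rw [Module.finrank_eq_card_basis (Algebra.TensorProduct.basis p.ResidueField
    (Pi.basisFun A (Fin n))), Fintype.card_fin] at h2
  exact h2

theorem main [IsReduced A]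
    (hC0 : ∀ p : PrimeSpectrum A, ∃ f : A, f ∉ p.asIdeal ∧ ∀ q : PrimeSpectrum A, f ∉ q.asIdeal →
        LieAlgebra.rank q.asIdeal.ResidueField (q.asIdeal.ResidueField ⊗[A] L) =
          LieAlgebra.rank p.asIdeal.ResidueField (p.asIdeal.ResidueField ⊗[A] L))
    (A' : Type u) [CommRing A'] [Algebra A A'] (a' : A' ⊗[A] L)
    (ha' : IsQuasiRegular A' (A' ⊗[A] L) a') :
    IsRegularRel A' (A' ⊗[A] L) a' := by
  obtain ⟨n, g, hg⟩ := Module.Finite.exists_fin' A L
  refine isRegularRel_of_isCompl a' ha' (n + 1) (Nat.le_add_left 1 n) ?_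
  apply isCompl_of_local
  intro q
  haveI : Module.Free (Localization.AtPrime q.asIdeal)
      (Localization.AtPrime q.asIdeal ⊗[A'] (A' ⊗[A] L)) := free_of_local
  obtain ⟨h0, hr⟩ := charpoly_local hC0 A' a' q.asIdeal (ha' q)
  rw [← ad_baseChange_tmul]
  exact exists_pow_eq _ _ (n + 1)
    ((rank_le_of_surjective n g hg (q.asIdeal.comap (algebraMap A A'))).trans (Nat.le_succ n)) h0 hr

end K218.Reduced2
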