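import Mathlib.Algebra.Lie.Rank
import Mathlib.Algebra.Lie.CartanExists
import Mathlib.Algebra.Lie.BaseChange
import Mathlib.Algebra.Lie.Nilpotent
import Mathlib.LinearAlgebra.Charpoly.BaseChange
import Mathlib.FieldTheory.IsAlgClosed.AlgebraicClosure
import Mathlib.RingTheory.Flat.FaithfullyFlat.Algebra
import Mathlib.LinearAlgebra.TensorProduct.Tower

/-!
# Rank and regular elements of a Lie algebra: isomorphisms, base change, nilpotent Engel subalgebras
-/

set_option autoImplicit false

open scoped TensorProduct
open Module LieAlgebra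

namespace K218.RankBC

attribute [local instance 100] LieRing.ofAssociativeRing

/-! ### Lie algebra isomorphisms -/

section Equiv

variable {K : Type*} [Field K]
variable {L : Type*} [LieRing L] [LieAlgebra K L]
variable {L' : Type*} [LieRing L'] [LieAlgebra K L']

/-- `ad` of the image under an isomorphism is the conjugate. -/
theorem ad_equiv (e : L ≃ₗ⁅K⁆ L') (x : L) :
    ad K L' (e x) = (e.toLinearEquiv.conj (ad K L x)) := by
  ext y
  rw [LinearEquiv.conj_apply, LinearMap.comp_apply, LinearMap.comp_apply, ad_apply]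
  obtain ⟨z, rfl⟩ := e.toLinearEquiv.surjective y
  rw [LinearEquiv.coe_coe, LinearEquiv.coe_coe, LinearEquiv.symm_apply_apply, ad_apply]
  exact (LieEquiv.map_lie e x z).symm

theorem charpoly_ad_equiv [Module.Finite K L] [Module.Finite K L'] (e : L ≃ₗ⁅K⁆ L') (x : L) :
    (ad K L' (e x)).charpoly = (ad K L x).charpoly := by
  rw [ad_equiv, LinearEquiv.charpoly_conj]

/-- The algebra isomorphism of base changes. -/
theorem mem_engel_equiv (e : L ≃ₗ⁅K⁆ L') (x y : L) :
    e y ∈ LieSubalgebra.engel K (e x) ↔ y ∈ LieSubalgebra.engel K x := by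
  rw [LieSubalgebra.mem_engel_iff, LieSubalgebra.mem_engel_iff]
  have h : ∀ n : ℕ, ((ad K L' (e x)) ^ n) (e y) = e (((ad K L x) ^ n) y) := by
    intro n
    induction n with
    | zero => simp
    | succ n ih =>
      rw [pow_succ', pow_succ', Module.End.mul_apply, Module.End.mul_apply, ih, ad_apply, ad_apply,
        LieEquiv.map_lie]
  simp only [h, EmbeddingLike.map_eq_zero_iff]

end Equiv

/-! ### base change -/

section BC

variable {R : Type*} [CommRing R] (A : Type*) [CommRing A] [Algebra R A]
variable (L : Type*) [LieRing L] [LieAlgebra R L]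

theorem ad_baseChange_tmul (x : L) :
    ad A (A ⊗[R] L) (1 ⊗ₜ x) = (ad R L x).baseChange A := by
  apply TensorProduct.AlgebraTensorModule.curry_injective
  ext y
  simp

theorem ad_toLinearMap_baseChange :
    (LieHom.toLinearMap (ad A (A ⊗[R] L)) : (A ⊗[R] L) →ₗ[A] Module.End A (A ⊗[R] L)) =
      LinearMap.tensorProduct R A L L ∘ₗ
        (LieHom.toLinearMap (ad R L) : L →ₗ[R] Module.End R L).baseChange A := by
  apply TensorProduct.AlgebraTensorModule.curry_injective
  ext x y
  simp [LinearMap.tensorProduct]

variable [Module.Finite R L] [Module.Free R L]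

/-- The rank of a base change. -/
theorem rank_baseChange_eq [Nontrivial A] {ι : Type*} [Fintype ι] [DecidableEq ι] (b : Basis ι R L) :
    rank A (A ⊗[R] L) = ((LinearMap.polyCharpoly (LieHom.toLinearMap (ad R L)) b).map
      (MvPolynomial.map (algebraMap R A))).natTrailingDegree := by
  rw [rank_eq_natTrailingDegree A (A ⊗[R] L) (Algebra.TensorProduct.basis A b),
    ad_toLinearMap_baseChange, LinearMap.polyCharpoly_baseChange]

/-- The characteristic polynomial of an arbitrary element of a base change. -/
theorem charpoly_ad_baseChange {ι : Type*} [Fintype ι] [DecidableEq ι] (b : Basis ι R L)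
    (x : A ⊗[R] L) :
    (ad A (A ⊗[R] L) x).charpoly =
      ((LinearMap.polyCharpoly (LieHom.toLinearMap (ad R L)) b).map
        (MvPolynomial.map (algebraMap R A))).map
        (MvPolynomial.eval ((Algebra.TensorProduct.basis A b).repr x)) := by
  rw [← LinearMap.polyCharpoly_baseChange, ← ad_toLinearMap_baseChange,
    LinearMap.polyCharpoly_map_eq_charpoly]
  rfl

end BC

section Fields

variable (K K' : Type*) [Field K] [Field K'] [Algebra K K']
variable (L : Type*) [LieRing L] [LieAlgebra K L] [Module.Finite K L]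

/-- The rank is invariant under field extensions. -/
theorem rank_baseChange : rank K' (K' ⊗[K] L) = rank K L := by
  classical
  let b := Module.Free.chooseBasis K L
  rw [rank_baseChange_eq K' L b, rank_eq_natTrailingDegree K L b]
  have hinj : Function.Injective (MvPolynomial.map (σ := Module.Free.ChooseBasisIndex K L)
    (algebraMap K K')) := MvPolynomial.map_injective _ (algebraMap K K').injective
  apply le_antisymm
  · apply Polynomial.natTrailingDegree_le_of_ne_zero
    rw [Polynomial.coeff_map]
    rw [map_ne_zero_iff _ hinj]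
    exact Polynomial.trailingCoeff_nonzero_iff_nonzero.mpr (LinearMap.polyCharpoly_ne_zero _ _)
  · apply Polynomial.le_natTrailingDegree
    · rw [Polynomial.map_ne_zero_iff hinj]
      exact LinearMap.polyCharpoly_ne_zero _ _
    · intro m hm
      rw [Polynomial.coeff_map, Polynomial.coeff_eq_zero_of_lt_natTrailingDegree hm, map_zero]

variable {L} in
theorem isRegular_baseChange (x : L) :
    IsRegular K' ((1 : K') ⊗ₜ[K] x) ↔ IsRegular K x := by
  rw [isRegular_def, isRegular_def, rank_baseChange, ad_baseChange_tmul,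
    LinearMap.charpoly_baseChange, Polynomial.coeff_map, map_ne_zero_iff _ (algebraMap K K').injective]

end Fields

section Min

variable {K : Type*} [Field K]
variable {L : Type*} [LieRing L] [LieAlgebra K L] [Module.Finite K L]
variable {L' : Type*} [LieRing L'] [LieAlgebra K L'] [Module.Finite K L']

theorem rank_le_of_lieEquiv_of_infinite [Infinite K] (e : L ≃ₗ⁅K⁆ L') : rank K L ≤ rank K L' := by
  obtain ⟨y, hy⟩ := exists_isRegular K L'
  obtain ⟨x, rfl⟩ : ∃ x, e x = y := e.surjective y
  rw [isRegular_iff_natTrailingDegree_charpoly_eq_rank, charpoly_ad_equiv] at hy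
  rw [← hy]
  exact rank_le_natTrailingDegree_charpoly_ad K x

theorem rank_eq_of_lieEquiv_of_infinite [Infinite K] (e : L ≃ₗ⁅K⁆ L') : rank K L = rank K L' :=
  le_antisymm (rank_le_of_lieEquiv_of_infinite e) (rank_le_of_lieEquiv_of_infinite e.symm)

/-- base change of a Lie algebra isomorphism -/
noncomputable def lieEquivBaseChange (K' : Type*) [Field K'] [Algebra K K'] (e : L ≃ₗ⁅K⁆ L') :
    (K' ⊗[K] L) ≃ₗ⁅K'⁆ (K' ⊗[K] L') :=
  { e.toLinearEquiv.baseChange K K' L L' with
    map_lie' := by
      intro x y
      change (e.toLinearEquiv.baseChange K K' L L') ⁅x, y⁆ =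
        ⁅(e.toLinearEquiv.baseChange K K' L L') x, (e.toLinearEquiv.baseChange K K' L L') y⁆
      induction x with
      | zero => simp
      | add a b ha hb => rw [add_lie, map_add, ha, hb, map_add, add_lie]
      | tmul a l =>
        induction y with
        | zero => simp
        | add c d hc hd => rw [lie_add, map_add, hc, hd, map_add, lie_add]
        | tmul c m =>
          rw [LieAlgebra.ExtendScalars.bracket_tmul, LinearEquiv.baseChange_tmul,
            LinearEquiv.baseChange_tmul, LinearEquiv.baseChange_tmul,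
            LieAlgebra.ExtendScalars.bracket_tmul]
          congr 1
          exact LieEquiv.map_lie e l m }

/-- The rank is invariant under isomorphisms. -/
theorem rank_eq_of_lieEquiv (e : L ≃ₗ⁅K⁆ L') : rank K L = rank K L' := by
  haveI : Infinite (AlgebraicClosure K) := IsAlgClosed.instInfinite
  rw [← rank_baseChange K (AlgebraicClosure K) L, ← rank_baseChange K (AlgebraicClosure K) L']
  exact rank_eq_of_lieEquiv_of_infinite (lieEquivBaseChange (AlgebraicClosure K) e)

theorem isRegular_lieEquiv (e : L ≃ₗ⁅K⁆ L') (x : L) : IsRegular K (e x) ↔ IsRegular K x := by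
  rw [isRegular_def, isRegular_def, charpoly_ad_equiv, rank_eq_of_lieEquiv e]

/-- The Engel subalgebra of a regular element is nilpotent, infinite field. -/
theorem engel_le_of_isRegular_of_infinite [Infinite K] (x : L) (hx : IsRegular K x) (y : L)
    (hy : y ∈ LieSubalgebra.engel K x) : LieSubalgebra.engel K x ≤ LieSubalgebra.engel K y := by
  have h : finrank K L ≤ Cardinal.mk K :=
    Cardinal.natCast_le_aleph0.trans <| Cardinal.infinite_iff.mp ‹Infinite K›
  set Ex : {LieSubalgebra.engel K z | z ∈ LieSubalgebra.engel K x} :=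
    ⟨LieSubalgebra.engel K x, x, LieSubalgebra.self_mem_engel _ _, rfl⟩
  suffices IsBot Ex from @this ⟨LieSubalgebra.engel K y, y, hy, rfl⟩
  apply engel_isBot_of_isMin h (LieSubalgebra.engel K x) Ex le_rfl
  rintro ⟨_, y, hy, rfl⟩ hyx
  suffices finrank K (LieSubalgebra.engel K x) ≤ finrank K (LieSubalgebra.engel K y) by
    suffices LieSubalgebra.engel K y = LieSubalgebra.engel K x from this.ge
    apply LieSubalgebra.toSubmodule_injective
    exact Submodule.eq_of_le_of_finrank_le hyx this
  rw [(isRegular_iff_finrank_engel_eq_rank K x).mp hx]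
  apply rank_le_finrank_engel

omit [Module.Finite K L] in
theorem tmul_mem_engel (K' : Type*) [Field K'] [Algebra K K'] (x y : L) :
    (1 : K') ⊗ₜ[K] y ∈ LieSubalgebra.engel K' ((1 : K') ⊗ₜ[K] x) ↔ y ∈ LieSubalgebra.engel K x := by
  rw [LieSubalgebra.mem_engel_iff, LieSubalgebra.mem_engel_iff]
  have h : ∀ n : ℕ, ((ad K' (K' ⊗[K] L) ((1 : K') ⊗ₜ[K] x)) ^ n) ((1 : K') ⊗ₜ[K] y) =
      (1 : K') ⊗ₜ[K] (((ad K L x) ^ n) y) := by
    intro n
    rw [ad_baseChange_tmul, ← LinearMap.baseChange_pow, LinearMap.baseChange_tmul]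
  simp only [h]
  have hinj : Function.Injective (fun z : L => (1 : K') ⊗ₜ[K] z) :=
    Module.FaithfullyFlat.tensorProduct_mk_injective (A := K) (B := K') L
  constructor
  · rintro ⟨n, hn⟩
    refine ⟨n, hinj ?_⟩
    simpa using hn
  · rintro ⟨n, hn⟩
    exact ⟨n, by rw [hn, TensorProduct.tmul_zero]⟩

theorem engel_le_of_isRegular (x : L) (hx : IsRegular K x) (y : L)
    (hy : y ∈ LieSubalgebra.engel K x) : LieSubalgebra.engel K x ≤ LieSubalgebra.engel K y := by
  haveI : Infinite (AlgebraicClosure K) := IsAlgClosed.instInfinite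
  intro z hz
  rw [← tmul_mem_engel (AlgebraicClosure K)] at hy hz ⊢
  exact engel_le_of_isRegular_of_infinite _
    ((isRegular_baseChange K (AlgebraicClosure K) x).mpr hx) _ hy hz

/-- The Engel subalgebra of a regular element is nilpotent. -/
theorem isNilpotent_engel_of_isRegular (x : L) (hx : IsRegular K x) :
    LieRing.IsNilpotent (LieSubalgebra.engel K x) :=
  LieSubalgebra.isNilpotent_of_forall_le_engel _ (engel_le_of_isRegular x hx)

end Min

end K218.RankBC
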