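import Groth.Agent.SGA3t2b.K218.HtOneHopf
import Groth.Agent.HopfRep.K188.TrigUnip
import Groth.Agent.S8012
import Groth.Agent.Sga3C.SubHopf
import Mathlib.FieldTheory.Perfect

/-!
# Frobenius quotients and Frobenius kernels

For a Hopf algebra `A` over a perfect field `k` of characteristic `p`, the subalgebra `C` of `p^r`-th
powers is a Hopf algebra; the group `Spec A` is an extension of `Spec C` by an infinitesimal group.
-/

set_option autoImplicit false

universe u

open TensorProduct HopfRep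

namespace K218.Frob

open Groth.Agent.Sga3A.ComodBasic K218.PLie

/-- `C` is the Hopf subalgebra of `q`-th powers of `A` -/
structure IsPow {k : Type u} [Field k] {A C : Type u} [CommRing A] [HopfAlgebra k A]
    [CommRing C] [HopfAlgebra k C] (ψ : C →ₐc[k] A) (q : ℕ) : Prop where
  inj : Function.Injective ψ
  ex : ∀ c : C, ∃ a : A, ψ c = a ^ q
  ex' : ∀ a : A, ∃ c : C, ψ c = a ^ q

theorem exists_isPow (k A : Type u) [Field k] [PerfectField k] (p : ℕ) [Fact p.Prime]
    [CharP k p] [CommRing A] [HopfAlgebra k A] [Algebra.FiniteType k A] (r : ℕ) (hr : 0 < r) :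
    ∃ (C : Type u) (_ : CommRing C) (_ : HopfAlgebra k C) (ψ : C →ₐc[k] A), IsPow ψ (p ^ r) := by
  obtain ⟨B, hB, hH⟩ := (Groth.Agent.S8012.result k A p).1 r hr
  letI := Groth.Agent.Sga3C.SubHopf.hopfB hH
  refine ⟨B, inferInstance, inferInstance, Groth.Agent.Sga3C.SubHopf.valB hH, ?_, ?_, ?_⟩
  · exact Subtype.val_injective
  · intro c
    have h1 : (c : A) ∈ (B : Set A) := c.2
    rw [hB] at h1
    obtain ⟨a, ha⟩ := h1
    exact ⟨a, ha.symm⟩
  · intro a
    have h1 : a ^ p ^ r ∈ (B : Set A) := by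
      rw [hB]
      exact ⟨a, rfl⟩
    exact ⟨⟨_, h1⟩, rfl⟩

section

variable {k : Type u} [Field k] (p : ℕ) [Fact p.Prime] [CharP k p]
  {A C : Type u} [CommRing A] [HopfAlgebra k A] [CommRing C] [HopfAlgebra k C]
  {ψ : C →ₐc[k] A} {r : ℕ} (h : IsPow ψ (p ^ r))

theorem charP_alg (k : Type u) [Field k] (p : ℕ) [Fact p.Prime] [CharP k p] (A : Type u)
    [CommRing A] [Algebra k A] [Nontrivial A] : CharP A p :=
  charP_of_injective_algebraMap (algebraMap k A).injective p

/-- the ring map `A → C`, `a ↦ a^(p^r)` -/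
noncomputable def rho : A →+* C where
  toFun a := (h.ex' a).choose
  map_one' := h.inj (by rw [(h.ex' 1).choose_spec, one_pow, map_one])
  map_mul' a b := h.inj (by
    rw [(h.ex' _).choose_spec, map_mul, (h.ex' a).choose_spec, (h.ex' b).choose_spec, mul_pow])
  map_zero' := h.inj (by
    rw [(h.ex' 0).choose_spec, zero_pow (pow_ne_zero _ (Fact.out : p.Prime).ne_zero), map_zero])
  map_add' a b := h.inj (by
    haveI : Nontrivial A := nontrivial_hopf k A
    haveI := charP_alg k p A
    rw [(h.ex' _).choose_spec, map_add, (h.ex' a).choose_spec, (h.ex' b).choose_spec,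
      add_pow_char_pow])

theorem psi_rho (a : A) : ψ (rho p h a) = a ^ p ^ r := (h.ex' a).choose_spec

theorem rho_psi (c : C) : rho p h (ψ c) = c ^ p ^ r := h.inj (by rw [psi_rho, map_pow])

theorem rho_smul (t : k) (a : A) : rho p h (t • a) = t ^ p ^ r • rho p h a := h.inj (by
  rw [psi_rho, map_smul, psi_rho, smul_pow])

theorem rho_surjective : Function.Surjective (rho p h) := by
  intro c
  obtain ⟨a, ha⟩ := h.ex c
  exact ⟨a, h.inj (by rw [psi_rho, ha])⟩

theorem counit_rho (a : A) : CoalgebraStruct.counit (R := k) (rho p h a) =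
    (CoalgebraStruct.counit (R := k) a) ^ p ^ r := by
  rw [← CoalgHomClass.counit_comp_apply ψ, psi_rho, Bialgebra.counit_pow]

include p h in
theorem finiteType [Algebra.FiniteType k A] : Algebra.FiniteType k C := by
  classical
  obtain ⟨s, hs⟩ := (inferInstance : Algebra.FiniteType k A).out
  refine ⟨⟨s.image (rho p h), ?_⟩⟩
  rw [eq_top_iff]
  intro c _
  obtain ⟨a, rfl⟩ := rho_surjective p h c
  have ha : a ∈ Algebra.adjoin k (s : Set A) := by rw [hs]; trivial
  induction ha using Algebra.adjoin_induction with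
  | mem x hx => exact Algebra.subset_adjoin (by simpa using ⟨x, hx, rfl⟩)
  | algebraMap t =>
    rw [Algebra.algebraMap_eq_smul_one, rho_smul, map_one]
    exact Subalgebra.smul_mem _ (one_mem _) _
  | add x y _ _ h1 h2 => rw [map_add]; exact add_mem (h1 trivial) (h2 trivial)
  | mul x y _ _ h1 h2 => rw [map_mul]; exact mul_mem (h1 trivial) (h2 trivial)

variable [PerfectField k]

/-- `p^r`-th roots in the perfect field `k` -/
noncomputable def root (k : Type u) [Field k] (p : ℕ) [Fact p.Prime] [CharP k p] [PerfectField k]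
    (r : ℕ) : k ≃+* k :=
  haveI : PerfectRing k p := PerfectField.toPerfectRing p
  (iterateFrobeniusEquiv k p r).symm

omit [HopfAlgebra k A] [CommRing A] in
theorem root_pow (t : k) : root k p r (t ^ p ^ r) = t := by
  haveI : PerfectRing k p := PerfectField.toPerfectRing p
  exact (iterateFrobeniusEquiv k p r).symm_apply_apply t

theorem pow_root (t : k) : (root k p r t) ^ p ^ r = t := by
  haveI : PerfectRing k p := PerfectField.toPerfectRing p
  exact (iterateFrobeniusEquiv k p r).apply_symm_apply t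

/-- transport of functionals -/
noncomputable def pull (δ : C →ₗ[k] k) : A →ₗ[k] k where
  toFun a := root k p r (δ (rho p h a))
  map_add' a b := by rw [map_add, map_add, map_add]
  map_smul' t a := by
    rw [rho_smul, map_smul, smul_eq_mul, map_mul, root_pow, RingHom.id_apply, smul_eq_mul]

theorem pull_pow (δ : C →ₗ[k] k) (a : A) : (pull p h δ a) ^ p ^ r = δ (rho p h a) :=
  pow_root p _

theorem pull_mem {δ : C →ₗ[k] k} (hδ : δ ∈ EDer k C) : pull p h δ ∈ EDer k A := by
  intro a b
  change root k p r (δ (rho p h (a * b))) = _ * root k p r (δ (rho p h b)) +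
    _ * root k p r (δ (rho p h a))
  rw [map_mul, hδ, map_add, map_mul, map_mul, counit_rho, counit_rho, root_pow, root_pow]

theorem exists_lift (δ : C →ₗ[k] k) (z : A ⊗[k] A) : ∃ w : C ⊗[k] C,
    TensorProduct.map (ψ : C →ₗ[k] A) (ψ : C →ₗ[k] A) w = z ^ p ^ r ∧
      TensorProduct.rid k C (LinearMap.lTensor C δ w) =
        rho p h (TensorProduct.rid k A (LinearMap.lTensor A (pull p h δ) z)) := by
  haveI : Nontrivial A := nontrivial_hopf k A
  haveI : CharP (A ⊗[k] A) p := charP_alg k p _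
  induction z with
  | zero => exact ⟨0, by rw [zero_pow (pow_ne_zero _ (Fact.out : p.Prime).ne_zero), map_zero],
      by simp⟩
  | add x y hx hy =>
    obtain ⟨w1, h1, h1'⟩ := hx
    obtain ⟨w2, h2, h2'⟩ := hy
    exact ⟨w1 + w2, by rw [map_add, h1, h2, add_pow_char_pow],
      by rw [map_add, map_add, h1', h2', map_add, map_add, map_add]⟩
  | tmul x y =>
    refine ⟨rho p h x ⊗ₜ rho p h y, ?_, ?_⟩
    · rw [TensorProduct.map_tmul, Algebra.TensorProduct.tmul_pow]
      change ψ _ ⊗ₜ ψ _ = _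
      rw [psi_rho, psi_rho]
    · rw [LinearMap.lTensor_tmul, LinearMap.lTensor_tmul, TensorProduct.rid_tmul,
        TensorProduct.rid_tmul, rho_smul, pull_pow]

theorem T_rho (δ : C →ₗ[k] k) (a : A) : T C δ (rho p h a) = rho p h (T A (pull p h δ) a) := by
  obtain ⟨w, hw, hw'⟩ := exists_lift p h δ (CoalgebraStruct.comul (R := k) a)
  have h1 : w = CoalgebraStruct.comul (R := k) (rho p h a) := by
    apply Groth.Agent.Sga3C.SubHopf.map_val_injective' (ψ : C →ₗ[k] A) (ψ : C →ₗ[k] A) h.inj h.inj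
    rw [hw]
    have h2 := CoalgHomClass.map_comp_comul_apply ψ (rho p h a)
    refine Eq.trans ?_ h2.symm
    rw [psi_rho, Bialgebra.comul_pow]
  rw [h1] at hw'
  exact hw'

theorem T_pow_rho (δ : C →ₗ[k] k) (n : ℕ) (a : A) : ((T C δ) ^ n) (rho p h a) =
    rho p h (((T A (pull p h δ)) ^ n) a) := by
  induction n generalizing a with
  | zero => rfl
  | succ n ih => rw [pow_succ, pow_succ, Module.End.mul_apply, Module.End.mul_apply, T_rho, ih]

/-- transport of points -/
noncomputable def pullPt (g : C →ₐ[k] k) : A →ₐ[k] k :=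
  { (root k p r).toRingHom.comp ((g : C →+* k).comp (rho p h)) with
    commutes' := by
      intro t
      change root k p r (g (rho p h (algebraMap k A t))) = t
      rw [Algebra.algebraMap_eq_smul_one, rho_smul, map_one, map_smul, map_one, smul_eq_mul,
        mul_one, root_pow] }

theorem pullPt_psi (g : C →ₐ[k] k) (c : C) : pullPt p h g (ψ c) = g c := by
  change root k p r (g (rho p h (ψ c))) = _
  rw [rho_psi, map_pow, root_pow]

end

/-- all elements of the Lie algebra are nilpotent -/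
def NilLie (k : Type u) [Field k] (A : Type u) [CommRing A] [HopfAlgebra k A] : Prop :=
  ∀ δ ∈ EDer k A, ∃ n : ℕ, (T A δ) ^ n = 0

section

variable {k : Type u} [Field k] (p : ℕ) [Fact p.Prime] [CharP k p] [PerfectField k]
  {A C : Type u} [CommRing A] [HopfAlgebra k A] [CommRing C] [HopfAlgebra k C]

theorem NilLie.frob {ψ : C →ₐc[k] A} {r : ℕ} (h : IsPow ψ (p ^ r)) (hN : NilLie k A) :
    NilLie k C := by
  intro δ hδ
  obtain ⟨n, hn⟩ := hN _ (pull_mem p h hδ)
  refine ⟨n, ?_⟩
  ext c
  obtain ⟨a, rfl⟩ := rho_surjective p h c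
  rw [T_pow_rho, hn, LinearMap.zero_apply, map_zero, LinearMap.zero_apply]

end

section

variable {k : Type u} [Field k] {A B : Type u} [CommRing A] [HopfAlgebra k A] [CommRing B]
  [HopfAlgebra k B]

theorem T_comp (φ : A →ₐc[k] B) (δ : B →ₗ[k] k) (a : A) :
    T B δ (φ a) = φ (T A (δ ∘ₗ (φ : A →ₗ[k] B)) a) := by
  have h2 : ∀ z : A ⊗[k] A, φ (TensorProduct.rid k A (LinearMap.lTensor A
      (δ ∘ₗ (φ : A →ₗ[k] B)) z)) = TensorProduct.rid k B (LinearMap.lTensor B δ
        (TensorProduct.map (φ : A →ₗ[k] B) (φ : A →ₗ[k] B) z)) := by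
    intro z
    induction z with
    | zero => simp
    | add x y hx hy => simp only [map_add, hx, hy]
    | tmul x y => simp
  rw [T_apply, T_apply, h2]
  congr 2
  exact (CoalgHomClass.map_comp_comul_apply φ a).symm

theorem T_pow_comp (φ : A →ₐc[k] B) (δ : B →ₗ[k] k) (n : ℕ) (a : A) :
    ((T B δ) ^ n) (φ a) = φ (((T A (δ ∘ₗ (φ : A →ₗ[k] B))) ^ n) a) := by
  induction n generalizing a with
  | zero => rfl
  | succ n ih => rw [pow_succ, pow_succ, Module.End.mul_apply, Module.End.mul_apply, T_comp, ih]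

theorem comp_mem (φ : A →ₐc[k] B) {δ : B →ₗ[k] k} (hδ : δ ∈ EDer k B) :
    δ ∘ₗ (φ : A →ₗ[k] B) ∈ EDer k A := by
  intro a b
  change δ (φ (a * b)) = _ * δ (φ b) + _ * δ (φ a)
  rw [map_mul, hδ, CoalgHomClass.counit_comp_apply, CoalgHomClass.counit_comp_apply]

theorem NilLie.quot (φ : A →ₐc[k] B) (hφ : Function.Surjective φ) (hN : NilLie k A) :
    NilLie k B := by
  intro δ hδ
  obtain ⟨n, hn⟩ := hN _ (comp_mem φ hδ)
  refine ⟨n, ?_⟩
  ext b
  obtain ⟨a, rfl⟩ := hφ b
  rw [T_pow_comp, hn, LinearMap.zero_apply, map_zero, LinearMap.zero_apply]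

end

section

variable {k : Type u} [Field k] (p : ℕ) [Fact p.Prime] [CharP k p] [PerfectField k]
  {A C : Type u} [CommRing A] [HopfAlgebra k A] [CommRing C] [HopfAlgebra k C]

omit [PerfectField k] in
theorem pow_mk_eq_zero {ψ : C →ₐc[k] A} {r : ℕ} (h : IsPow ψ (p ^ r)) (J : Ideal A)
    [J.IsHopfIdeal k]
    (hJ : J = Ideal.map (ψ : C →+* A) (RingHom.ker (Bialgebra.counitAlgHom k C))) (x : A ⧸ J)
    (hx : CoalgebraStruct.counit (R := k) x = 0) : x ^ p ^ r = 0 := by
  obtain ⟨a, rfl⟩ := Ideal.Quotient.mk_surjective x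
  have ha : CoalgebraStruct.counit (R := k) a = 0 := hx
  rw [← map_pow, Ideal.Quotient.eq_zero_iff_mem, hJ, ← psi_rho p h]
  refine Ideal.mem_map_of_mem _ ?_
  rw [RingHom.mem_ker]
  change CoalgebraStruct.counit (R := k) (rho p h a) = 0
  rw [counit_rho, ha, zero_pow (pow_ne_zero _ (Fact.out : p.Prime).ne_zero)]

/-- Infinitesimal groups with nilpotent Lie algebra are unipotent. -/
theorem isUnipotent_infinitesimal (r : ℕ) (A : Type u) [CommRing A] [HopfAlgebra k A]
    [Algebra.FiniteType k A] (hA : ∀ a : A, CoalgebraStruct.counit (R := k) a = 0 → a ^ p ^ r = 0)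
    (hN : NilLie k A) : IsUnipotent k A := by
  induction r generalizing A with
  | zero =>
    refine HtOneHopf.isUnipotent_of_height_one p (fun a ha => ?_) hN
    have := hA a ha
    rw [pow_zero, pow_one] at this
    rw [this, zero_pow (Fact.out : p.Prime).ne_zero]
  | succ r ih =>
    obtain ⟨C, _, _, ψ, h⟩ := exists_isPow k A p 1 one_pos
    haveI := finiteType p h
    haveI hJH := K188.TrigUnip.isHopfIdeal_map (k := k) ψ
    refine Unip.isUnipotent_of_extension ψ _ rfl ?_ ?_
    · refine ih C (fun c hc => ?_) (hN.frob p h)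
      obtain ⟨a, rfl⟩ := rho_surjective p h c
      rw [counit_rho, pow_eq_zero_iff (pow_ne_zero _ (Fact.out : p.Prime).ne_zero)] at hc
      have h1 := hA a hc
      rw [← map_pow]
      apply h.inj
      rw [psi_rho, map_zero, ← pow_mul, ← pow_add]
      exact h1
    · refine HtOneHopf.isUnipotent_of_height_one p (fun a ha => ?_)
        (hN.quot (Bialgebra.Quotient.mkBialgHom (R := k) _) Ideal.Quotient.mk_surjective)
      have := pow_mk_eq_zero p h _ rfl a ha
      rwa [pow_one] at this

/-- A group with nilpotent Lie algebra is unipotent if its Frobenius quotient is. -/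
theorem isUnipotent_of_isPow [Algebra.FiniteType k A] {ψ : C →ₐc[k] A} {r : ℕ}
    (h : IsPow ψ (p ^ r)) (hN : NilLie k A) (hC : IsUnipotent k C) : IsUnipotent k A := by
  haveI hJH := K188.TrigUnip.isHopfIdeal_map (k := k) ψ
  refine Unip.isUnipotent_of_extension ψ _ rfl hC ?_
  exact isUnipotent_infinitesimal p r _ (fun a ha => pow_mk_eq_zero p h _ rfl a ha)
    (hN.quot (Bialgebra.Quotient.mkBialgHom (R := k) _) Ideal.Quotient.mk_surjective)

omit [PerfectField k] in
theorem exists_isReduced [Algebra.FiniteType k A] : ∃ r₀ : ℕ, ∀ r, r₀ ≤ r →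
    ∀ (C : Type u) [CommRing C] [HopfAlgebra k C] (ψ : C →ₐc[k] A), IsPow ψ (p ^ r) →
      IsReduced C := by
  haveI : IsNoetherianRing A := Algebra.FiniteType.isNoetherianRing k A
  obtain ⟨N, hN⟩ := IsNoetherianRing.isNilpotent_nilradical A
  refine ⟨N, fun r hr C _ _ ψ h => ⟨fun c hc => ?_⟩⟩
  obtain ⟨a, rfl⟩ := rho_surjective p h c
  have h1 : IsNilpotent a := by
    have h2 := hc.map ψ
    rw [psi_rho] at h2
    obtain ⟨m, hm⟩ := h2
    exact ⟨p ^ r * m, by rw [pow_mul, hm]⟩
  have h2 : a ^ N = 0 := by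
    have h3 := Ideal.pow_mem_pow (mem_nilradical.mpr h1) N
    rw [hN] at h3
    exact h3
  apply h.inj
  rw [psi_rho, map_zero]
  have h3 : N ≤ p ^ r := hr.trans (Nat.lt_pow_self (Fact.out : p.Prime).one_lt).le
  rw [← Nat.sub_add_cancel h3, pow_add, h2, mul_zero]

end

end K218.Frob
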