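import Groth.Agent.SGA3t2b.K218.UnipMu
import Groth.Agent.Sga3C.HopfPowIdeal
import Groth.Agent.S7951

/-!
# The kernel of the first Frobenius over an arbitrary field, and base change of nilpotence
-/

set_option autoImplicit false

universe u

open TensorProduct HopfRep

namespace K218.FrobKer

open Groth.Agent.Sga3A.ComodBasic K218.PLie K218.Frob

section

variable (k : Type u) [Field k] (p : ℕ) [Fact p.Prime] [CharP k p]
  (A : Type u) [CommRing A] [HopfAlgebra k A]

/-- The ideal generated by the `p`-th powers of the augmentation ideal. -/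
def frobIdeal : Ideal A :=
  Ideal.span {b | ∃ a : A, CoalgebraStruct.counit (R := k) a = 0 ∧ b = a ^ p}

variable {A}

theorem mem_frobIdeal {a : A} (ha : CoalgebraStruct.counit (R := k) a = 0) :
    a ^ p ∈ frobIdeal k p A := Ideal.subset_span ⟨a, ha, rfl⟩

theorem counit_of_mem {b : A} (hb : b ∈ frobIdeal k p A) :
    CoalgebraStruct.counit (R := k) b = 0 := by
  have h1 : frobIdeal k p A ≤ RingHom.ker (Bialgebra.counitAlgHom k A) := by
    rw [frobIdeal, Ideal.span_le]
    rintro _ ⟨a, ha, rfl⟩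
    change CoalgebraStruct.counit (R := k) (a ^ p) = 0
    rw [Bialgebra.counit_pow, ha, zero_pow (Fact.out : p.Prime).ne_zero]
  exact h1 hb

/-- The ideal generated by the `p`-th powers of the augmentation ideal is a Hopf ideal. -/
theorem isHopfIdeal_frobIdeal : (frobIdeal k p A).IsHopfIdeal k := by
  set J := frobIdeal k p A with hJ
  have hne : J ≠ ⊤ := by
    intro h
    have h1 : (1 : A) ∈ J := by rw [h]; trivial
    have := counit_of_mem k p h1
    rw [Bialgebra.counit_one] at this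
    exact one_ne_zero this
  haveI : Nontrivial (A ⧸ J) := Ideal.Quotient.nontrivial_iff.mpr hne
  haveI : CharP ((A ⧸ J) ⊗[k] (A ⧸ J)) p := charP_alg k p _
  let F : A ⊗[k] A →+* (A ⧸ J) ⊗[k] (A ⧸ J) :=
    (Algebra.TensorProduct.map (Ideal.Quotient.mkₐ k J) (Ideal.Quotient.mkₐ k J)).toRingHom
  have hmk : ∀ a : A, CoalgebraStruct.counit (R := k) a = 0 → (Ideal.Quotient.mk J a) ^ p = 0 := by
    intro a ha
    rw [← map_pow, Ideal.Quotient.eq_zero_iff_mem]
    exact mem_frobIdeal k p ha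
  have hF : ∀ a : A, CoalgebraStruct.counit (R := k) a = 0 →
      (F (CoalgebraStruct.comul (R := k) a)) ^ p = 0 := by
    intro a ha
    have h1 := Groth.Agent.Sga3C.HopfPow.comul_mem_of_mem
      (Groth.Agent.Sga3C.HopfPow.mem_augIdeal.mpr ha)
    have h2 : (Groth.Agent.Sga3C.HopfPow.augIdeal k A).map
          (Algebra.TensorProduct.includeLeft (R := k) (S := k) (A := A) (B := A)) ⊔
        (Groth.Agent.Sga3C.HopfPow.augIdeal k A).map
          (Algebra.TensorProduct.includeRight (R := k) (A := A) (B := A)) ≤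
        RingHom.ker ((frobenius _ p).comp F) := by
      refine sup_le ?_ ?_
      · rw [Ideal.map_le_iff_le_comap]
        intro b hb
        rw [Ideal.mem_comap, RingHom.mem_ker]
        change (F (b ⊗ₜ 1)) ^ p = 0
        change ((Ideal.Quotient.mk J b) ⊗ₜ[k] (Ideal.Quotient.mk J 1)) ^ p = 0
        rw [Algebra.TensorProduct.tmul_pow, hmk b hb, TensorProduct.zero_tmul]
      · rw [Ideal.map_le_iff_le_comap]
        intro b hb
        rw [Ideal.mem_comap, RingHom.mem_ker]
        change (F (1 ⊗ₜ b)) ^ p = 0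
        change ((Ideal.Quotient.mk J 1) ⊗ₜ[k] (Ideal.Quotient.mk J b)) ^ p = 0
        rw [Algebra.TensorProduct.tmul_pow, hmk b hb, TensorProduct.tmul_zero]
    exact h2 h1
  refine { counit_eq_zero := ?_, map_mkQ_comul_eq_zero := ?_, antipode_mem := ?_ }
  · intro a ha
    exact counit_of_mem k p ha
  · intro a ha
    have h1 : J ≤ RingHom.ker (F.comp (Bialgebra.comulAlgHom k A : A →+* A ⊗[k] A)) := by
      refine Ideal.span_le.mpr ?_
      rintro _ ⟨b, hb, rfl⟩
      change F (CoalgebraStruct.comul (R := k) (b ^ p)) = 0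
      rw [Bialgebra.comul_pow, map_pow, hF b hb]
    exact h1 ha
  · intro a ha
    have h1 : J ≤ J.comap (HopfAlgebra.antipodeAlgHom k A : A →+* A) := by
      refine Ideal.span_le.mpr ?_
      rintro _ ⟨b, hb, rfl⟩
      change (HopfAlgebra.antipodeAlgHom k A) (b ^ p) ∈ J
      rw [map_pow]
      refine mem_frobIdeal k p ?_
      change CoalgebraStruct.counit (R := k) (HopfAlgebra.antipode k b) = 0
      rw [HopfAlgebra.counit_antipode, hb]
    exact h1 ha

end

section

theorem nilLie_of_convPow {k : Type u} [Field k] {A : Type u} [CommRing A] [HopfAlgebra k A]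
    (h : ∀ D : LieHopf.Lie k A, ∃ n : ℕ,
      LieHopf.convPow (D.toLinearMap.restrictScalars k ∘ₗ LinearMap.id) n = 0) :
    NilLie k A := by
  intro δ hδ
  obtain ⟨n, hn⟩ := h (toLie δ hδ)
  refine ⟨n, ?_⟩
  rw [toLie_dlin] at hn
  have h2 := HtOneHopf.T_smulV (V := A) (0 : k) (0 : A →ₗ[k] k)
  rw [smul_zero, zero_smul] at h2
  rw [HtOneHopf.T_pow, hn, h2]

theorem nilLie_of_isUnipotent {k : Type u} [Field k] (p : ℕ) [Fact p.Prime] [CharP k p]
    {A : Type u} [CommRing A] [HopfAlgebra k A] [Algebra.FiniteType k A]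
    (hU : IsUnipotent k A) : NilLie k A :=
  nilLie_of_convPow fun D => by
    obtain ⟨n, -, hn⟩ := Groth.Agent.S2968.result p hU D
    exact ⟨_, hn⟩

/-- Nilpotence of the Lie algebra is stable under base change. -/
theorem NilLie.baseChange {k : Type u} [Field k] (p : ℕ) [Fact p.Prime] [CharP k p]
    {A : Type u} [CommRing A] [HopfAlgebra k A] [Algebra.FiniteType k A] (hN : NilLie k A)
    (K : Type u) [Field K] [Algebra k K] : NilLie K (K ⊗[k] A) := by
  haveI : CharP K p := charP_of_injective_algebraMap (algebraMap k K).injective p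
  haveI hJ := isHopfIdeal_frobIdeal k p (A := A)
  set J := frobIdeal k p A with hJdef
  have h1 : IsUnipotent k (A ⧸ J) :=
    HtOneHopf.isUnipotent_of_height_one p (fun x hx => by
      obtain ⟨a, rfl⟩ := Ideal.Quotient.mk_surjective x
      rw [← map_pow, Ideal.Quotient.eq_zero_iff_mem]
      exact mem_frobIdeal k p hx)
      (hN.quot (Bialgebra.Quotient.mkBialgHom (R := k) J) Ideal.Quotient.mk_surjective)
  have h2 : IsUnipotent K (K ⊗[k] (A ⧸ J)) := (Groth.Agent.S7951.result k K (A ⧸ J)).mp h1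
  have h3 : NilLie K (K ⊗[k] (A ⧸ J)) := nilLie_of_isUnipotent p h2
  let π : (K ⊗[k] A) →ₐc[K] (K ⊗[k] (A ⧸ J)) :=
    Bialgebra.TensorProduct.map (BialgHom.id K K) (Bialgebra.Quotient.mkBialgHom (R := k) J)
  have hπ : ∀ (c : K) (a : A), π (c ⊗ₜ a) = c ⊗ₜ Ideal.Quotient.mk J a := fun c a => rfl
  intro δ hδ
  -- `δ` factors through `π`
  let δ₀ : A →ₗ[k] K := (δ.restrictScalars k) ∘ₗ (Algebra.TensorProduct.includeRight :
    A →ₐ[k] K ⊗[k] A).toLinearMap
  have hδ₀ : ∀ a, δ₀ a = δ (1 ⊗ₜ a) := fun a => rfl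
  have hε : ∀ a : A, CoalgebraStruct.counit (R := K) ((1 : K) ⊗ₜ[k] a) =
      algebraMap k K (CoalgebraStruct.counit (R := k) a) := by
    intro a
    change CoalgebraStruct.counit (R := k) a • CoalgebraStruct.counit (R := K) (1 : K) = _
    rw [Bialgebra.counit_one, Algebra.algebraMap_eq_smul_one]
  have hmul : ∀ a b, δ₀ (a * b) = algebraMap k K (CoalgebraStruct.counit (R := k) a) * δ₀ b +
      algebraMap k K (CoalgebraStruct.counit (R := k) b) * δ₀ a := by
    intro a b
    rw [hδ₀, ← hε, ← hε, hδ₀, hδ₀, ← hδ]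
    congr 1
    rw [Algebra.TensorProduct.tmul_mul_tmul, one_mul]
  have hpow : ∀ (a : A) (n : ℕ), CoalgebraStruct.counit (R := k) a = 0 → δ₀ (a ^ (n + 2)) = 0 := by
    intro a n ha
    rw [pow_succ, hmul, ha, map_zero, zero_mul, add_zero, Bialgebra.counit_pow, ha,
      zero_pow (Nat.succ_ne_zero n), map_zero, zero_mul]
  have hker : J.restrictScalars k ≤ LinearMap.ker δ₀ := by
    intro b hb
    have hb' : b ∈ Ideal.span {b | ∃ a : A, CoalgebraStruct.counit (R := k) a = 0 ∧ b = a ^ p} := hb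
    rw [LinearMap.mem_ker]
    induction hb' using Submodule.span_induction with
    | mem x hx =>
      obtain ⟨a, ha, rfl⟩ := hx
      have hp2 : p = (p - 2) + 2 := (Nat.sub_add_cancel (Fact.out : p.Prime).two_le).symm
      rw [hp2]
      exact hpow a _ ha
    | zero => rw [map_zero]
    | add x y hx' hy' hx hy => rw [map_add, hx hx', hy hy', add_zero]
    | smul r x hx' hx =>
      have hx0 : CoalgebraStruct.counit (R := k) x = 0 := counit_of_mem k p hx'
      rw [smul_eq_mul, hmul, hx hx', mul_zero, zero_add, hx0, map_zero, zero_mul]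
  let δ₁ : (A ⧸ J) →ₗ[k] K := (J.restrictScalars k).liftQ δ₀ hker
  let δ₂ : K ⊗[k] (A ⧸ J) →ₗ[K] K := LinearMap.liftBaseChange K δ₁
  have hδ₂ : δ₂ ∘ₗ (π : (K ⊗[k] A) →ₗ[K] (K ⊗[k] (A ⧸ J))) = δ := by
    ext a
    change δ₂ (π (1 ⊗ₜ a)) = δ (1 ⊗ₜ a)
    rw [hπ, LinearMap.liftBaseChange_tmul, one_smul]
    rfl
  have hπs : Function.Surjective π := by
    intro z
    induction z with
    | zero => exact ⟨0, map_zero _⟩
    | add x y hx hy =>
      obtain ⟨a, rfl⟩ := hx
      obtain ⟨b, rfl⟩ := hy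
      exact ⟨a + b, map_add _ _ _⟩
    | tmul c x =>
      obtain ⟨a, rfl⟩ := Ideal.Quotient.mk_surjective x
      exact ⟨c ⊗ₜ a, rfl⟩
  have hδ₂m : δ₂ ∈ EDer K (K ⊗[k] (A ⧸ J)) := by
    intro x y
    obtain ⟨a, rfl⟩ := hπs x
    obtain ⟨b, rfl⟩ := hπs y
    have h4 := fun z => LinearMap.congr_fun hδ₂ z
    change ∀ z, δ₂ (π z) = δ z at h4
    rw [← map_mul, h4, h4, h4, CoalgHomClass.counit_comp_apply, CoalgHomClass.counit_comp_apply]
    exact hδ a b
  obtain ⟨n, hn⟩ := h3 δ₂ hδ₂m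
  refine ⟨n, ?_⟩
  have h5 : ∀ a, π (((T (K ⊗[k] A) δ) ^ n) a) = 0 := by
    intro a
    rw [← hδ₂, ← T_pow_comp, hn, LinearMap.zero_apply]
  have h6 : LieHopf.convPow δ n = 0 := by
    refine LinearMap.ext fun a => ?_
    rw [Groth.Agent.S2968.convPow_eq, ← CoalgHomClass.counit_comp_apply π, h5, map_zero]
    rfl
  have h7 := HtOneHopf.T_smulV (V := K ⊗[k] A) (0 : K) (0 : (K ⊗[k] A) →ₗ[K] K)
  rw [smul_zero, zero_smul] at h7
  rw [HtOneHopf.T_pow, h6, h7]

end

end K218.FrobKer
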