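import Mathlib.Algebra.MvPolynomial.PDeriv
import Mathlib.RingTheory.MvPolynomial.EulerIdentity
import Mathlib.RingTheory.MvPolynomial.Homogeneous
import Mathlib.RingTheory.Derivation.Basic
import Mathlib.Algebra.CharP.Basic
import Mathlib.Tactic

/-!
# Constants of derivations in local algebras of height one

`eq_zero_of_forall_der_eq_zero`: let `A` be an algebra over a field `k` of characteristic `p`, `m` a
nilpotent ideal with `A = k + m`, `x₁, …, xₙ ∈ m` spanning `m` modulo `m²`, with `xᵢᵖ = 0`, and let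
`Dᵢ` be derivations of `A` with `Dᵢ xⱼ ≡ δᵢⱼ` modulo `m`.  An element of `m` killed by all `Dᵢ` is zero.
-/

set_option autoImplicit false

universe u

namespace K218.HtOne

variable {k A : Type*} [Field k] [CommRing A] [Algebra k A]

theorem der_mem_pow (D : Derivation k A A) (m : Ideal A) (n : ℕ) (a : A) (ha : a ∈ m ^ (n + 1)) :
    D a ∈ m ^ n := by
  induction n generalizing a with
  | zero => simp
  | succ n ih =>
    rw [pow_succ] at ha
    induction ha using Submodule.mul_induction_on' with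
    | mem_mul_mem x hx y hy =>
      rw [D.leibniz]
      refine add_mem ?_ ?_
      · exact Ideal.mul_mem_right _ _ hx
      · rw [smul_eq_mul, mul_comm, pow_succ]
        exact Ideal.mul_mem_mul (ih x hx) hy
    | add x _ y _ h1 h2 => rw [map_add]; exact add_mem h1 h2

variable {n : ℕ} (m : Ideal A) (x : Fin n → A)

theorem aeval_mem_pow (hx : ∀ i, x i ∈ m) (d : ℕ) (F : MvPolynomial (Fin n) k)
    (hF : F.IsHomogeneous d) : MvPolynomial.aeval x F ∈ m ^ d := by
  rw [MvPolynomial.aeval_def, MvPolynomial.eval₂_eq']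
  refine sum_mem fun α hα => Ideal.mul_mem_left _ _ ?_
  have h1 : α.degree = d := by
    by_contra hne
    exact (MvPolynomial.mem_support_iff.mp hα) (hF.coeff_eq_zero hne)
  rw [← h1, Finsupp.degree_eq_sum, ← Finset.prod_pow_eq_pow_sum]
  exact Ideal.prod_mem_prod fun i _ => Ideal.pow_mem_pow (hx i) _

theorem exists_homog (hm0 : ∀ a : A, ∃ c : k, a - algebraMap k A c ∈ m)
    (hx : ∀ i, x i ∈ m)
    (hm : ∀ a ∈ m, ∃ c : Fin n → k, a - ∑ i, c i • x i ∈ m ^ 2) (d : ℕ) (a : A) (ha : a ∈ m ^ d) :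
    ∃ F : MvPolynomial (Fin n) k, F.IsHomogeneous d ∧ a - MvPolynomial.aeval x F ∈ m ^ (d + 1) := by
  induction d generalizing a with
  | zero =>
    obtain ⟨c, hc⟩ := hm0 a
    refine ⟨MvPolynomial.C c, MvPolynomial.isHomogeneous_C _ _, ?_⟩
    rwa [zero_add, pow_one, MvPolynomial.aeval_C]
  | succ d ih =>
    rw [pow_succ] at ha
    induction ha using Submodule.mul_induction_on' with
    | mem_mul_mem u hu v hv =>
      obtain ⟨F, hF, hF'⟩ := ih u hu
      obtain ⟨c, hc⟩ := hm v hv
      refine ⟨F * ∑ i, MvPolynomial.C (c i) * MvPolynomial.X i, ?_, ?_⟩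
      · refine hF.mul (MvPolynomial.IsHomogeneous.sum _ _ _ fun i _ => ?_)
        have := (MvPolynomial.isHomogeneous_C (Fin n) (c i)).mul
          (MvPolynomial.isHomogeneous_X k i)
        simpa using this
      · have h1 : MvPolynomial.aeval x (∑ i, MvPolynomial.C (c i) * MvPolynomial.X i) =
            ∑ i, c i • x i := by
          rw [map_sum]
          refine Finset.sum_congr rfl fun i _ => ?_
          rw [map_mul, MvPolynomial.aeval_C, MvPolynomial.aeval_X, Algebra.smul_def]
        rw [map_mul, h1]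
        have h2 : u * v - MvPolynomial.aeval x F * ∑ i, c i • x i =
            u * (v - ∑ i, c i • x i) + (u - MvPolynomial.aeval x F) * ∑ i, c i • x i := by ring
        rw [h2]
        refine add_mem ?_ ?_
        · have := Ideal.mul_mem_mul hu hc
          rwa [← pow_add] at this
        · rw [pow_succ]
          refine Ideal.mul_mem_mul hF' (sum_mem fun i _ => ?_)
          rw [Algebra.smul_def]
          exact Ideal.mul_mem_left _ _ (hx i)
    | add u _ v _ h1 h2 =>
      obtain ⟨F, hF, hF'⟩ := h1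
      obtain ⟨G, hG, hG'⟩ := h2
      refine ⟨F + G, hF.add hG, ?_⟩
      rw [map_add]
      have := add_mem hF' hG'
      convert this using 1
      ring

theorem der_aeval (D : Derivation k A A) (F : MvPolynomial (Fin n) k) :
    D (MvPolynomial.aeval x F) =
      ∑ i, MvPolynomial.aeval x (MvPolynomial.pderiv i F) * D (x i) := by
  classical
  induction F using MvPolynomial.induction_on with
  | C a => simp
  | add F G hF hG => simp only [map_add, hF, hG, add_mul, Finset.sum_add_distrib]
  | mul_X F j hF =>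
    rw [map_mul, D.leibniz, hF, MvPolynomial.aeval_X]
    simp only [MvPolynomial.pderiv_mul, map_add, map_mul, MvPolynomial.aeval_X, add_mul,
      Finset.sum_add_distrib, MvPolynomial.pderiv_X, smul_eq_mul, Finset.mul_sum]
    rw [add_comm]
    congr 1
    · refine Finset.sum_congr rfl fun i _ => by ring
    · rw [Finset.sum_eq_single j]
      · simp
      · intro i _ hij
        rw [Pi.single_eq_of_ne' hij]
        simp
      · simp

theorem der_aeval_sub_mem (hx : ∀ i, x i ∈ m) (D : Derivation k A A) (j : Fin n)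
    (hD : ∀ i, D (x i) - (if i = j then 1 else 0) ∈ m) (d : ℕ) (F : MvPolynomial (Fin n) k)
    (hF : F.IsHomogeneous d) :
    D (MvPolynomial.aeval x F) - MvPolynomial.aeval x (MvPolynomial.pderiv j F) ∈ m ^ d := by
  cases d with
  | zero => simp
  | succ d =>
    have h1 : MvPolynomial.aeval x (MvPolynomial.pderiv j F) =
        ∑ i, MvPolynomial.aeval x (MvPolynomial.pderiv i F) * (if i = j then 1 else 0) := by
      simp
    rw [der_aeval, h1, ← Finset.sum_sub_distrib]
    refine sum_mem fun i _ => ?_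
    rw [← mul_sub, pow_succ]
    refine Ideal.mul_mem_mul ?_ (hD i)
    have := hF.pderiv (i := i)
    rw [Nat.add_sub_cancel] at this
    exact aeval_mem_pow m x hx d _ this

variable (p : ℕ) [Fact p.Prime] [CharP k p]

omit [Fact p.Prime] in
theorem natCast_ne_zero_of_lt {a : ℕ} (h0 : a ≠ 0) (h : a < p) : (a : k) ≠ 0 := by
  rw [Ne, CharP.cast_eq_zero_iff k p]
  exact Nat.not_dvd_of_pos_of_lt (Nat.pos_of_ne_zero h0) h

theorem coeff_eq_zero_of_pderiv (F : MvPolynomial (Fin n) k) (j : Fin n) (α : Fin n →₀ ℕ)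
    (hα : α j ≠ 0) (hα' : α j < p)
    (h : MvPolynomial.coeff (α - Finsupp.single j 1) (MvPolynomial.pderiv j F) = 0) :
    MvPolynomial.coeff α F = 0 := by
  rw [MvPolynomial.coeff_pderiv] at h
  have h1 : α - Finsupp.single j 1 + Finsupp.single j 1 = α :=
    tsub_add_cancel_of_le (Finsupp.single_le_iff.mpr (Nat.one_le_iff_ne_zero.mpr hα))
  rw [h1, mul_eq_zero] at h
  refine h.resolve_right ?_
  rw [Finsupp.coe_tsub, Pi.sub_apply, Finsupp.single_eq_same]
  have h2 : ((α j - 1 : ℕ) : k) + 1 = ((α j : ℕ) : k) := by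
    rw [← Nat.cast_succ]
    congr 1
    omega
  rw [h2]
  exact natCast_ne_zero_of_lt p hα hα'

theorem coeff_eq_zero_of_aeval_mem (hm1 : (1 : A) ∉ m) (hx : ∀ i, x i ∈ m)
    (D : Fin n → Derivation k A A)
    (hD : ∀ j i, D j (x i) - (if i = j then 1 else 0) ∈ m) (d : ℕ) (F : MvPolynomial (Fin n) k)
    (hF : F.IsHomogeneous d) (h : MvPolynomial.aeval x F ∈ m ^ (d + 1)) (α : Fin n →₀ ℕ)
    (hα : ∀ i, α i < p) : MvPolynomial.coeff α F = 0 := by
  induction d generalizing F α with
  | zero =>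
    by_contra hne
    have h0 : α.degree = 0 := by
      by_contra hc
      exact hne (hF.coeff_eq_zero hc)
    obtain rfl : α = 0 := by rwa [Finsupp.degree_eq_zero_iff] at h0
    have h1 : F = MvPolynomial.C (MvPolynomial.coeff 0 F) := by
      rw [← MvPolynomial.totalDegree_eq_zero_iff_eq_C]
      exact Nat.eq_zero_of_le_zero hF.totalDegree_le
    rw [h1, MvPolynomial.aeval_C, zero_add, pow_one] at h
    apply hm1
    have h2 := Ideal.mul_mem_left m (algebraMap k A (MvPolynomial.coeff 0 F)⁻¹) h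
    rwa [← map_mul, inv_mul_cancel₀ hne, map_one] at h2
  | succ d ih =>
    by_contra hne
    have h0 : α.degree = d + 1 := by
      by_contra hc
      exact hne (hF.coeff_eq_zero hc)
    obtain ⟨j, hj⟩ : ∃ j, α j ≠ 0 := by
      by_contra hc
      push Not at hc
      obtain rfl : α = 0 := Finsupp.ext hc
      rw [(Finsupp.degree_eq_zero_iff (0 : Fin n →₀ ℕ)).2 rfl] at h0
      omega
    apply hne
    refine coeff_eq_zero_of_pderiv p F j α hj (hα j) ?_
    have h1 := der_mem_pow (D j) m (d + 1) _ h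
    have h2 := der_aeval_sub_mem m x hx (D j) j (hD j) (d + 1) F hF
    have h3 := sub_mem h1 h2
    rw [sub_sub_cancel] at h3
    have hp := hF.pderiv (i := j)
    rw [Nat.add_sub_cancel] at hp
    refine ih _ hp h3 _ fun i => ?_
    rw [Finsupp.coe_tsub, Pi.sub_apply]
    exact lt_of_le_of_lt (Nat.sub_le _ _) (hα i)

theorem mem_pow_succ (hm1 : (1 : A) ∉ m) (hm0 : ∀ a : A, ∃ c : k, a - algebraMap k A c ∈ m)
    (hx : ∀ i, x i ∈ m) (hxp : ∀ i, x i ^ p = 0)
    (hm : ∀ a ∈ m, ∃ c : Fin n → k, a - ∑ i, c i • x i ∈ m ^ 2)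
    (D : Fin n → Derivation k A A)
    (hD : ∀ j i, D j (x i) - (if i = j then 1 else 0) ∈ m) (f : A) (hf : ∀ i, D i f = 0)
    (d : ℕ) (hfd : f ∈ m ^ (d + 1)) : f ∈ m ^ (d + 1 + 1) := by
  obtain ⟨F, hF, hF'⟩ := exists_homog m x hm0 hx hm (d + 1) f hfd
  have h1 : ∀ α : Fin n →₀ ℕ, (∀ i, α i < p) → MvPolynomial.coeff α F = 0 := by
    intro α hα
    by_contra hne
    have h0 : α.degree = d + 1 := by
      by_contra hc
      exact hne (hF.coeff_eq_zero hc)
    obtain ⟨j, hj⟩ : ∃ j, α j ≠ 0 := by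
      by_contra hc
      push Not at hc
      obtain rfl : α = 0 := Finsupp.ext hc
      rw [(Finsupp.degree_eq_zero_iff (0 : Fin n →₀ ℕ)).2 rfl] at h0
      omega
    apply hne
    refine coeff_eq_zero_of_pderiv p F j α hj (hα j) ?_
    have h1 := der_mem_pow (D j) m (d + 1) _ hF'
    rw [map_sub, hf, zero_sub, neg_mem_iff] at h1
    have h2 := der_aeval_sub_mem m x hx (D j) j (hD j) (d + 1) F hF
    have h3 := sub_mem h1 h2
    rw [sub_sub_cancel] at h3
    have hp := hF.pderiv (i := j)
    rw [Nat.add_sub_cancel] at hp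
    refine coeff_eq_zero_of_aeval_mem m x p hm1 hx D hD d _ hp h3 _ fun i => ?_
    rw [Finsupp.coe_tsub, Pi.sub_apply]
    exact lt_of_le_of_lt (Nat.sub_le _ _) (hα i)
  have h2 : MvPolynomial.aeval x F = 0 := by
    rw [MvPolynomial.aeval_def, MvPolynomial.eval₂_eq']
    refine Finset.sum_eq_zero fun α hα => ?_
    have h3 : ∃ i, p ≤ α i := by
      by_contra hc
      push Not at hc
      exact (MvPolynomial.mem_support_iff.mp hα) (h1 α hc)
    obtain ⟨i, hi⟩ := h3
    rw [Finset.prod_eq_zero (Finset.mem_univ i), mul_zero]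
    rw [← Nat.sub_add_cancel hi, pow_add, hxp, mul_zero]
  rwa [h2, sub_zero] at hF'

/-- Constants of derivations in a local algebra of height one. -/
theorem eq_zero_of_forall_der_eq_zero (hm1 : (1 : A) ∉ m)
    (hm0 : ∀ a : A, ∃ c : k, a - algebraMap k A c ∈ m)
    (hx : ∀ i, x i ∈ m) (hxp : ∀ i, x i ^ p = 0)
    (hm : ∀ a ∈ m, ∃ c : Fin n → k, a - ∑ i, c i • x i ∈ m ^ 2)
    (hnil : IsNilpotent m)
    (D : Fin n → Derivation k A A)
    (hD : ∀ j i, D j (x i) - (if i = j then 1 else 0) ∈ m) (f : A) (hfm : f ∈ m)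
    (hf : ∀ i, D i f = 0) : f = 0 := by
  have h1 : ∀ d : ℕ, f ∈ m ^ (d + 1) := by
    intro d
    induction d with
    | zero => simpa using hfm
    | succ d ih => exact mem_pow_succ m x p hm1 hm0 hx hxp hm D hD f hf d ih
  obtain ⟨N, hN⟩ := hnil
  have h2 := Ideal.pow_le_pow_right (Nat.le_succ N) (h1 N)
  rw [hN] at h2
  exact h2

end K218.HtOne
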