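import Groth.Agent.SGA3t2b.K218.PLie
import Groth.Agent.SGA3t2b.K218.HtOne
import Groth.Agent.Books.ComodHom
import Mathlib.Algebra.Lie.Engel
import Mathlib.Algebra.Lie.OfAssociative
import Mathlib.RingTheory.FiniteType

/-!
# Groups of height one all of whose Lie algebra elements are nilpotent are unipotent

* `eq_algebraMap_of_T_eq_zero`: in a Hopf algebra of height one, functions killed by the Lie algebra
  are constant;
* `isUnipotent_of_height_one`.
-/

set_option autoImplicit false

universe u

open TensorProduct HopfRep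

namespace K218.HtOneHopf

open Groth.Agent.Sga3A.ComodBasic K218.PLie

variable {k : Type u} [Field k] {A : Type u} [CommRing A] [HopfAlgebra k A]

theorem exists_dual_family' {V W : Type u} [AddCommGroup V] [Module k V] [AddCommGroup W]
    [Module k W] [Module.Finite k W] (ev : W →ₗ[k] V →ₗ[k] k) (hev : Function.Injective ev) :
    ∃ (n : ℕ) (δ : Fin n → W)
    (x : Fin n → V), (∀ i j, ev (δ j) (x i) = if i = j then 1 else 0) ∧
    (∀ δ' : W, ∃ c : Fin n → k, δ' = ∑ i, c i • δ i) := by
  classical
  let b := Module.finBasis k W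
  let n := Module.finrank k W
  let Φ : V →ₗ[k] (Fin n → k) := LinearMap.pi fun i => ev (b i)
  have hΦ : Function.Surjective Φ := by
    rw [← LinearMap.range_eq_top]
    by_contra hne
    obtain ⟨f, hf0, hf⟩ := Submodule.exists_le_ker_of_lt_top _ (lt_top_iff_ne_top.mpr hne)
    apply hf0
    have h1 : ∀ c : Fin n → k, f c = ∑ i, c i * f (Pi.single i 1) := by
      intro c
      conv_lhs => rw [← Finset.univ_sum_single c]
      rw [map_sum]
      refine Finset.sum_congr rfl fun i _ => ?_
      have : (Pi.single i (c i) : Fin n → k) = c i • Pi.single i 1 := by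
        rw [← Pi.single_smul, smul_eq_mul, mul_one]
      rw [this, map_smul, smul_eq_mul]
    have h2 : ∑ i, f (Pi.single i 1) • b i = 0 := by
      apply hev
      ext a
      have h3 : f (Φ a) = 0 := hf ⟨a, rfl⟩
      rw [h1] at h3
      rw [map_sum, LinearMap.sum_apply, map_zero, LinearMap.zero_apply]
      refine Eq.trans (Finset.sum_congr rfl fun i _ => ?_) h3
      rw [map_smul, LinearMap.smul_apply, smul_eq_mul, mul_comm]
      rfl
    have h5 := Fintype.linearIndependent_iff.mp b.linearIndependent _ h2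
    ext i
    simpa using h5 i
  choose y hy using hΦ
  refine ⟨n, fun i => b i, fun i => y (Pi.single i 1), ?_, ?_⟩
  · intro i j
    have := congrFun (hy (Pi.single i 1)) j
    rw [LinearMap.pi_apply] at this
    rw [this, Pi.single_apply]
    simp [eq_comm]
  · intro δ'
    exact ⟨fun i => b.repr δ' i, (b.sum_repr δ').symm⟩

theorem exists_dual_family [Algebra.FiniteType k A] : ∃ (n : ℕ) (δ : Fin n → (A →ₗ[k] k))
    (x : Fin n → A), (∀ i, δ i ∈ EDer k A) ∧ (∀ i, CoalgebraStruct.counit (R := k) (x i) = 0) ∧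
    (∀ i j, δ j (x i) = if i = j then 1 else 0) ∧
    (∀ δ' ∈ EDer k A, ∃ c : Fin n → k, δ' = ∑ i, c i • δ i) := by
  haveI hN0 : Module.Finite k (EDer k A) := finite_EDer
  letI : AddCommGroup (EDer k A) := Submodule.addCommGroup (EDer k A)
  obtain ⟨n, δ, y, h2, h3⟩ := exists_dual_family' (W := EDer k A) (EDer k A).subtype
    (EDer k A).injective_subtype
  refine ⟨n, fun i => (δ i).1, fun i => y i -
    algebraMap k A (CoalgebraStruct.counit (R := k) (y i)), fun i => (δ i).2, ?_, ?_, ?_⟩
  · intro i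
    rw [map_sub, Algebra.algebraMap_eq_smul_one, map_smul, Bialgebra.counit_one, smul_eq_mul,
      mul_one, sub_self]
  · intro i j
    rw [map_sub, Algebra.algebraMap_eq_smul_one, map_smul, EDer_one (δ j).2, smul_zero, sub_zero]
    exact h2 i j
  · intro δ' hδ'
    obtain ⟨c, hc⟩ := h3 ⟨δ', hδ'⟩
    refine ⟨c, ?_⟩
    have h1 := congrArg (EDer k A).subtype hc
    rw [map_sum] at h1
    exact h1

/-- an element of the augmentation ideal killed by all `ε`-derivations lies in its square -/
theorem mem_sq_of_EDer {a : A} (ha : CoalgebraStruct.counit (R := k) a = 0)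
    (h : ∀ δ ∈ EDer k A, δ a = 0) : a ∈ (RingHom.ker (Bialgebra.counitAlgHom k A)) ^ 2 := by
  set m := RingHom.ker (Bialgebra.counitAlgHom k A) with hm
  by_contra hne
  let P : Submodule k A := (m ^ 2).restrictScalars k ⊔ Submodule.span k {1}
  have haP : a ∉ P := by
    intro haP
    obtain ⟨s, hs, y, hy, rfl⟩ := Submodule.mem_sup.mp haP
    obtain ⟨c, rfl⟩ := Submodule.mem_span_singleton.mp hy
    have hs' : CoalgebraStruct.counit (R := k) s = 0 := by
      have : s ∈ m := Ideal.pow_le_self two_ne_zero hs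
      exact this
    rw [map_add, hs', zero_add, map_smul, Bialgebra.counit_one, smul_eq_mul, mul_one] at ha
    rw [ha, zero_smul, add_zero] at hne
    exact hne hs
  obtain ⟨f, hf, hfP⟩ := Submodule.exists_le_ker_of_notMem haP
  apply hf
  refine h f fun x y => ?_
  have h1 : (x - algebraMap k A (CoalgebraStruct.counit (R := k) x)) *
      (y - algebraMap k A (CoalgebraStruct.counit (R := k) y)) ∈ m ^ 2 := by
    rw [pow_two]
    have hz : ∀ z : A, z - algebraMap k A (CoalgebraStruct.counit (R := k) z) ∈ m := by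
      intro z
      rw [hm, RingHom.mem_ker, map_sub, AlgHom.commutes]
      exact sub_self _
    exact Ideal.mul_mem_mul (hz x) (hz y)
  have h2 : f _ = 0 := hfP (Submodule.mem_sup_left h1)
  have h3 : f 1 = 0 := hfP (Submodule.mem_sup_right (Submodule.mem_span_singleton_self _))
  have h4 : (x - algebraMap k A (CoalgebraStruct.counit (R := k) x)) *
      (y - algebraMap k A (CoalgebraStruct.counit (R := k) y)) = x * y -
      (CoalgebraStruct.counit (R := k) x) • y - (CoalgebraStruct.counit (R := k) y) • x +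
      ((CoalgebraStruct.counit (R := k) x) * (CoalgebraStruct.counit (R := k) y)) • (1 : A) := by
    rw [Algebra.smul_def, Algebra.smul_def, Algebra.smul_def, map_mul]
    ring
  rw [h4, map_add, map_sub, map_sub, map_smul, map_smul, map_smul, h3, smul_zero, add_zero] at h2
  simp only [smul_eq_mul] at h2
  linear_combination h2

variable (p : ℕ) [Fact p.Prime] [CharP k p]

/-- In a Hopf algebra of height one, functions killed by the Lie algebra are constant. -/
theorem eq_algebraMap_of_T_eq_zero [Algebra.FiniteType k A]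
    (h1 : ∀ a : A, CoalgebraStruct.counit (R := k) a = 0 → a ^ p = 0) (f : A)
    (hf : ∀ δ ∈ EDer k A, T A δ f = 0) :
    f = algebraMap k A (CoalgebraStruct.counit (R := k) f) := by
  classical
  haveI : IsNoetherianRing A := Algebra.FiniteType.isNoetherianRing k A
  obtain ⟨n, δ, x, hδ, hx, hδx, hspan⟩ := exists_dual_family (k := k) (A := A)
  set m := RingHom.ker (Bialgebra.counitAlgHom k A) with hm
  have hmem : ∀ z : A, z ∈ m ↔ CoalgebraStruct.counit (R := k) z = 0 := fun z => Iff.rfl
  have hz : ∀ z : A, z - algebraMap k A (CoalgebraStruct.counit (R := k) z) ∈ m := by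
    intro z
    rw [hm, RingHom.mem_ker, map_sub, AlgHom.commutes]
    exact sub_self _
  rw [← sub_eq_zero]
  refine HtOne.eq_zero_of_forall_der_eq_zero m x p ?_ ?_ ?_ ?_ ?_ ?_ (fun i => der (δ i) (hδ i)) ?_
    _ (hz f) ?_
  · rw [hmem, Bialgebra.counit_one]
    exact one_ne_zero
  · exact fun a => ⟨_, hz a⟩
  · exact hx
  · exact fun i => h1 _ (hx i)
  · intro a ha
    refine ⟨fun i => δ i a, mem_sq_of_EDer ?_ ?_⟩
    · rw [map_sub, map_sum, (hmem a).mp ha, zero_sub, neg_eq_zero]
      exact Finset.sum_eq_zero fun i _ => by rw [map_smul, hx, smul_zero]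
    · intro δ' hδ'
      obtain ⟨c, rfl⟩ := hspan δ' hδ'
      rw [map_sub, map_sum, sub_eq_zero]
      simp only [LinearMap.sum_apply, LinearMap.smul_apply, map_smul, hδx, smul_eq_mul, mul_ite,
        mul_one, mul_zero, Finset.sum_ite_eq, Finset.mem_univ, if_true]
      exact Finset.sum_congr rfl fun i _ => mul_comm _ _
  · rw [Ideal.FG.isNilpotent_iff_le_nilradical (IsNoetherian.noetherian m)]
    intro a ha
    exact ⟨p, h1 a ha⟩
  · intro j i
    rw [hmem, map_sub, der_apply, Unip.counit_T, hδx]
    split_ifs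
    · rw [Bialgebra.counit_one, sub_self]
    · rw [map_zero, sub_self]
  · intro i
    rw [der_apply, map_sub, hf _ (hδ i), Algebra.algebraMap_eq_smul_one, map_smul, T_one (hδ i),
      smul_zero, sub_zero]

attribute [local instance 100] LieRing.ofAssociativeRing

section Engel

variable {V : Type u} [AddCommGroup V] [Module k V] [Comod k A V]

omit [HopfAlgebra k A] in
theorem T_addV {A : Type u} [CommRing A] [HopfAlgebra k A] [Comod k A V] (g f : A →ₗ[k] k) :
    T V (g + f) = T V g + T V f := by
  ext a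
  simp only [T_apply, LinearMap.lTensor_add, LinearMap.add_apply, map_add]

theorem T_smulV (c : k) (f : A →ₗ[k] k) : T V (c • f) = c • T V f := by
  ext a
  simp only [T_apply, LinearMap.lTensor_smul, LinearMap.smul_apply, map_smul]

theorem T_pow (δ : A →ₗ[k] k) (n : ℕ) : (T V δ) ^ n = T V (LieHopf.convPow δ n) := by
  induction n with
  | zero =>
    rw [pow_zero]
    ext v
    exact (T_counit v).symm
  | succ n ih =>
    rw [pow_succ, ih]
    ext v
    rw [Module.End.mul_apply, T_T]
    rfl

theorem T_nilp (δ : A →ₗ[k] k) (n : ℕ) (h : (T A δ) ^ n = 0) : (T V δ) ^ n = 0 := by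
  have h1 : LieHopf.convPow δ n = 0 := by
    ext a
    rw [Groth.Agent.S2968.convPow_eq, h, LinearMap.zero_apply, map_zero, LinearMap.zero_apply]
  have h2 := T_smulV (V := V) (0 : k) (0 : A →ₗ[k] k)
  rw [smul_zero, zero_smul] at h2
  rw [T_pow, h1, h2]

theorem bracket_mem {δ δ' : A →ₗ[k] k} (hδ : δ ∈ EDer k A) (hδ' : δ' ∈ EDer k A) :
    Groth.Agent.Sga3A.ComodBasic.conv δ δ' - Groth.Agent.Sga3A.ComodBasic.conv δ' δ ∈
      EDer k A := by
  have h1 := Groth.Agent.S2968.T_leibniz δ hδ
  have h2 := Groth.Agent.S2968.T_leibniz δ' hδ'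
  intro a b
  simp only [LinearMap.sub_apply]
  have h3 : ∀ (g f : A →ₗ[k] k) (x : A), Groth.Agent.Sga3A.ComodBasic.conv g f x =
      CoalgebraStruct.counit (R := k) (T A g (T A f x)) := by
    intro g f x
    rw [T_T, Unip.counit_T]
  simp only [h3, h1, h2, map_add, Bialgebra.counit_mul]
  ring

variable (k A V) in
/-- The Lie algebra of operators on a comodule. -/
noncomputable def lieSub : LieSubalgebra k (Module.End k V) where
  carrier := {f | ∃ δ ∈ EDer k A, T V δ = f}
  add_mem' := by
    rintro _ _ ⟨g, hg, rfl⟩ ⟨f, hf, rfl⟩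
    exact ⟨g + f, add_mem hg hf, T_addV g f⟩
  zero_mem' := by
    refine ⟨0, zero_mem _, ?_⟩
    have h2 := T_smulV (V := V) (0 : k) (0 : A →ₗ[k] k)
    rwa [smul_zero, zero_smul] at h2
  smul_mem' := by
    rintro c _ ⟨f, hf, rfl⟩
    exact ⟨c • f, Submodule.smul_mem _ _ hf, T_smulV c f⟩
  lie_mem' := by
    rintro _ _ ⟨g, hg, rfl⟩ ⟨f, hf, rfl⟩
    refine ⟨_, bracket_mem hg hf, ?_⟩
    rw [sub_eq_add_neg, T_addV, ← neg_one_smul k (Groth.Agent.Sga3A.ComodBasic.conv f g), T_smulV,
      neg_one_smul, ← sub_eq_add_neg, LieRing.of_associative_ring_bracket]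
    ext v
    rw [LinearMap.sub_apply, LinearMap.sub_apply, Module.End.mul_apply, Module.End.mul_apply, T_T,
      T_T]

end Engel

/-- A group of height one over a field of characteristic `p` all of whose Lie algebra elements are
nilpotent is unipotent. -/
theorem isUnipotent_of_height_one [Algebra.FiniteType k A]
    (h1 : ∀ a : A, CoalgebraStruct.counit (R := k) a = 0 → a ^ p = 0)
    (hnil : ∀ δ ∈ EDer k A, ∃ n : ℕ, (T A δ) ^ n = 0) : IsUnipotent k A := by
  intro V _ _ _ hV hV' hbot
  have hL : LieModule.IsNilpotent (lieSub k A V) V := by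
    rw [LieModule.isNilpotent_iff_forall' (R := k) (M := V)]
    rintro ⟨_, δ, hδ, rfl⟩
    obtain ⟨n, hn⟩ := hnil δ hδ
    exact ⟨n, T_nilp δ n hn⟩
  haveI := LieModule.nontrivial_max_triv_of_isNilpotent k (lieSub k A V) V
  obtain ⟨⟨v, hv⟩, hv0⟩ := exists_ne (0 : LieModule.maxTrivSubmodule k (lieSub k A V) V)
  have hv0' : v ≠ 0 := fun h => hv0 (Subtype.ext h)
  rw [LieModule.mem_maxTrivSubmodule] at hv
  have hv1 : ∀ δ ∈ EDer k A, T V δ v = 0 := fun δ hδ => hv ⟨_, δ, hδ, rfl⟩
  refine hv0' ((Submodule.eq_bot_iff _).1 hbot v ?_)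
  change Comod.coact (k := k) (A := A) v = v ⊗ₜ[k] (1 : A)
  rw [← sub_eq_zero]
  apply eq_zero_of_forall_contract
  intro g
  rw [map_sub, map_sub, LinearMap.lTensor_tmul, TensorProduct.rid_tmul, sub_eq_zero]
  change T V g v = g 1 • v
  rw [← sub_eq_zero]
  refine (Module.forall_dual_apply_eq_zero_iff k _).1 fun φ => ?_
  have h2 : Groth.Agent.Books.ComodHom.coeffMap A φ v = algebraMap k A (φ v) := by
    have h3 := eq_algebraMap_of_T_eq_zero p h1 (Groth.Agent.Books.ComodHom.coeffMap A φ v) (by
      intro δ hδ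
      have h4 := Groth.Agent.Sga3A.ComodUnip.map_T (V := V) (V' := A)
        (Groth.Agent.Books.ComodHom.coeffMap A φ) (by
          ext v
          exact (Groth.Agent.Books.ComodHom.isComodHom_coeffMap (A := A) φ v).symm) δ v
      rw [← h4, hv1 δ hδ, map_zero])
    rw [h3, Groth.Agent.Books.ComodHom.counit_coeffMap (A := A)]
  have h3 := Groth.Agent.Books.ComodHom.apply_coeffMap (A := A) φ g v
  rw [h2, Algebra.algebraMap_eq_smul_one, map_smul] at h3
  change φ v • g 1 = φ (T V g v) at h3
  rw [map_sub, map_smul, ← h3, smul_eq_mul, smul_eq_mul, mul_comm, sub_self]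

end K218.HtOneHopf
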