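import Groth.Agent.S2968
import Groth.Agent.SGA3t2b.K218.Unip
import Mathlib.LinearAlgebra.Lagrange
import Mathlib.FieldTheory.IsAlgClosed.Basic

/-!
# The `p`-Lie algebra of an affine group and subgroups isomorphic to `μ_p`

* `exists_pow_eq_self`: fixed vectors of the Frobenius in a finite-dimensional subspace stable under
  `p`-th powers.
* `EDer k A`: the space of `ε`-derivations of a Hopf algebra.
* `exists_mu_of_pow_eq_self`: an `ε`-derivation whose invariant operator satisfies `Tᵖ = T ≠ 0` gives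
  a surjection onto `k[ℤ/p]`.
* `exists_mu_of_not_nilpotent`: over an algebraically closed field, an `ε`-derivation which is not
  `p`-nilpotent gives a surjection onto `k[ℤ/p]`.
-/

set_option autoImplicit false

universe u

open TensorProduct HopfRep Polynomial

namespace K218.PLie

open Groth.Agent.Sga3A.ComodBasic Groth.Agent.Sga3A.ComodUnip

section Frob

variable {k : Type*} [Field k] (p : ℕ) [Fact p.Prime] [CharP k p]

/-- the auxiliary sequence of additive polynomials -/
def bseq (a : ℕ → k) (t : k) : ℕ → k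
  | 0 => a 0 * t ^ p
  | i + 1 => (bseq a t i) ^ p + a (i + 1) * t ^ p

theorem bseq_eq (a : ℕ → k) (t : k) (i : ℕ) : bseq p a t i =
    ∑ j ∈ Finset.range (i + 1), a j ^ (p ^ (i - j)) * t ^ (p ^ (i - j + 1)) := by
  induction i with
  | zero => simp [bseq]
  | succ i ih =>
    rw [bseq, ih, sum_pow_char, Finset.sum_range_succ _ (i + 1)]
    congr 1
    · refine Finset.sum_congr rfl fun j hj => ?_
      rw [Finset.mem_range] at hj
      have h1 : i + 1 - j = (i - j) + 1 := by omega
      rw [mul_pow, ← pow_mul, ← pow_mul, ← pow_succ, ← pow_succ, h1]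
    · simp

theorem exists_bseq_eq [IsAlgClosed k] (a : ℕ → k) (m : ℕ) (j₀ : ℕ) (hj₀ : j₀ ≤ m)
    (ha : a j₀ ≠ 0) : ∃ t : k, t ≠ 0 ∧ bseq p a t m = t := by
  have hp1 : 1 < p := (Fact.out : p.Prime).one_lt
  let e : ℕ → ℕ := fun j => p ^ (m - j + 1) - 1
  let f : k[X] := ∑ j ∈ Finset.range (m + 1), C (a j ^ (p ^ (m - j))) * X ^ (e j) - 1
  have he : ∀ j, 0 < e j := fun j => by
    have : 1 < p ^ (m - j + 1) := Nat.one_lt_pow (by omega) hp1
    change 0 < p ^ (m - j + 1) - 1
    omega
  have hinj : ∀ j ∈ Finset.range (m + 1), e j = e j₀ → j = j₀ := by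
    intro j hj h
    rw [Finset.mem_range] at hj
    have h1 : 1 < p ^ (m - j + 1) := Nat.one_lt_pow (by omega) hp1
    have h2 : 1 < p ^ (m - j₀ + 1) := Nat.one_lt_pow (by omega) hp1
    have h3 : p ^ (m - j + 1) = p ^ (m - j₀ + 1) := by
      change p ^ (m - j + 1) - 1 = p ^ (m - j₀ + 1) - 1 at h
      omega
    have h4 := Nat.pow_right_injective hp1 h3
    omega
  have hc : f.coeff (e j₀) = a j₀ ^ (p ^ (m - j₀)) := by
    simp only [f, coeff_sub, finsetSum_coeff, coeff_C_mul_X_pow, coeff_one]
    rw [if_neg (he j₀).ne', sub_zero, Finset.sum_eq_single j₀]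
    · simp
    · intro j hj hne
      rw [if_neg]
      intro h
      exact hne (hinj j hj h.symm)
    · intro h
      exact absurd (Finset.mem_range.mpr (Nat.lt_succ_of_le hj₀)) h
  have hdeg : f.degree ≠ 0 := by
    intro h
    have h1 : f.natDegree = 0 := natDegree_eq_of_degree_eq_some h
    have h2 : f.coeff (e j₀) = 0 := coeff_eq_zero_of_natDegree_lt (by rw [h1]; exact he j₀)
    rw [hc] at h2
    exact ha (pow_eq_zero_iff (pow_ne_zero _ (Fact.out : p.Prime).ne_zero) |>.mp h2)
  obtain ⟨t, ht⟩ := IsAlgClosed.exists_root f hdeg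
  have ht1 : ∑ j ∈ Finset.range (m + 1), a j ^ (p ^ (m - j)) * t ^ (e j) = 1 := by
    rw [IsRoot.def] at ht
    simp only [f, eval_sub, eval_finsetSum, eval_mul, eval_C, eval_pow, eval_X, eval_one] at ht
    exact sub_eq_zero.mp ht
  refine ⟨t, ?_, ?_⟩
  · rintro rfl
    rw [Finset.sum_eq_zero] at ht1
    · exact zero_ne_one ht1
    · intro j _
      rw [zero_pow (he j).ne', mul_zero]
  · rw [bseq_eq]
    have h1 : ∀ j ∈ Finset.range (m + 1), a j ^ (p ^ (m - j)) * t ^ (p ^ (m - j + 1)) =
        (a j ^ (p ^ (m - j)) * t ^ (e j)) * t := by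
      intro j _
      have h2 : p ^ (m - j + 1) = e j + 1 := by
        have h1 : 1 < p ^ (m - j + 1) := Nat.one_lt_pow (by omega) hp1
        change _ = p ^ (m - j + 1) - 1 + 1
        omega
      rw [h2, pow_succ, mul_assoc]
    rw [Finset.sum_congr rfl h1, ← Finset.sum_mul, ht1, one_mul]

/-- Fixed vectors of the Frobenius in a finite-dimensional space containing all `yᵖ^ⁱ ≠ 0`. -/
theorem exists_pow_eq_self [IsAlgClosed k] {R : Type*} [CommRing R] [Algebra k R] [CharP R p]
    (W : Submodule k R) [Module.Finite k W] (y : R) (hy : ∀ i : ℕ, y ^ p ^ i ≠ 0)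
    (hW : ∀ i : ℕ, y ^ p ^ i ∈ W) : ∃ E ∈ W, E ≠ 0 ∧ E ^ p = E := by
  classical
  let S : ℕ → Submodule k R := fun n => Submodule.span k ((fun i : ℕ => y ^ p ^ i) '' (Finset.range n))
  have hS : ∃ n, y ^ p ^ n ∈ S n := by
    let S' : ℕ →o Submodule k W := ⟨fun n => (S n).comap W.subtype, fun i j hij =>
      Submodule.comap_mono (Submodule.span_mono (Set.image_mono (by
        intro a ha
        simp only [Finset.coe_range, Set.mem_Iio] at ha ⊢
        omega)))⟩
    obtain ⟨n, hn⟩ := monotone_stabilizes_iff_noetherian.mpr (inferInstance : IsNoetherian k W) S'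
    refine ⟨n, ?_⟩
    have h1 : (⟨y ^ p ^ n, hW n⟩ : W) ∈ S' (n + 1) :=
      Submodule.subset_span ⟨n, by simp, rfl⟩
    rw [← hn (n + 1) (Nat.le_succ n)] at h1
    exact h1
  have hmin := fun m (h : m < Nat.find hS) => Nat.find_min hS h
  have hspec := Nat.find_spec hS
  rcases hm : Nat.find hS with _ | m
  · rw [hm] at hspec
    exfalso
    apply hy 0
    have : S 0 = ⊥ := by simp [S]
    rw [this] at hspec
    exact hspec
  rw [hm] at hspec hmin
  obtain ⟨a', ha'⟩ := (Submodule.mem_span_image_finset_iff_exists_fun k).mp hspec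
  let a : ℕ → k := fun i => if h : i ∈ Finset.range (m + 1) then a' ⟨i, h⟩ else 0
  have ha : ∑ i ∈ Finset.range (m + 1), a i • y ^ p ^ i = y ^ p ^ (m + 1) := by
    rw [← ha', ← Finset.sum_coe_sort (Finset.range (m + 1))]
    refine Finset.sum_congr rfl fun i _ => ?_
    simp only [a, dif_pos i.2]
  obtain ⟨j₀, hj₀, haj⟩ : ∃ j₀ ∈ Finset.range (m + 1), a j₀ ≠ 0 := by
    by_contra h
    push Not at h
    apply hy (m + 1)
    rw [← ha]
    exact Finset.sum_eq_zero fun i hi => by rw [h i hi, zero_smul]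
  obtain ⟨t, ht0, ht⟩ := exists_bseq_eq p a m j₀ (Nat.lt_succ_iff.mp (Finset.mem_range.mp hj₀)) haj
  refine ⟨∑ i ∈ Finset.range (m + 1), bseq p a t i • y ^ p ^ i, ?_, ?_, ?_⟩
  · exact sum_mem fun i _ => W.smul_mem _ (hW i)
  · intro h
    rw [Finset.sum_range_succ, ht] at h
    apply hmin m (Nat.lt_succ_self m)
    have h1 : y ^ p ^ m = -(t⁻¹ • ∑ i ∈ Finset.range m, bseq p a t i • y ^ p ^ i) := by
      have h2 := congrArg (fun z => t⁻¹ • z) h
      simp only [smul_add, smul_zero, smul_smul, inv_mul_cancel₀ ht0, one_smul] at h2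
      rw [eq_neg_iff_add_eq_zero, add_comm]
      exact h2
    rw [h1]
    refine neg_mem (Submodule.smul_mem _ _ (sum_mem fun i hi => Submodule.smul_mem _ _ ?_))
    exact Submodule.subset_span ⟨i, hi, rfl⟩
  · rw [sum_pow_char]
    have h1 : ∀ i ∈ Finset.range (m + 1), (bseq p a t i • y ^ p ^ i) ^ p =
        (bseq p a t i) ^ p • y ^ p ^ (i + 1) := by
      intro i _
      rw [_root_.smul_pow, ← pow_mul, ← pow_succ]
    rw [Finset.sum_congr rfl h1, Finset.sum_range_succ, ht, ← ha, Finset.smul_sum,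
      Finset.sum_range_succ' (fun i => bseq p a t i • y ^ p ^ i),
      Finset.sum_range_succ' (fun i => t ^ p • a i • y ^ p ^ i)]
    simp only [bseq, add_smul, Finset.sum_add_distrib, smul_smul]
    rw [mul_comm (a 0)]
    have h2 : ∀ i, t ^ p * a (i + 1) = a (i + 1) * t ^ p := fun i => mul_comm _ _
    simp only [h2]
    abel

end Frob

section Hopf

variable {k : Type u} [Field k] {A : Type u} [CommRing A] [HopfAlgebra k A]

/-- The space of `ε`-derivations. -/
def EDer (k : Type u) [Field k] (A : Type u) [CommRing A] [HopfAlgebra k A] :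
    Submodule k (A →ₗ[k] k) where
  carrier := {δ | ∀ a b, δ (a * b) = CoalgebraStruct.counit (R := k) a * δ b +
    CoalgebraStruct.counit (R := k) b * δ a}
  add_mem' := by
    intro x y hx hy a b
    rw [LinearMap.add_apply, LinearMap.add_apply, LinearMap.add_apply, hx, hy]
    ring
  zero_mem' := by
    intro a b
    simp
  smul_mem' := by
    intro c x hx a b
    rw [LinearMap.smul_apply, LinearMap.smul_apply, LinearMap.smul_apply, hx]
    simp only [smul_eq_mul]
    ring

theorem mem_EDer {δ : A →ₗ[k] k} : δ ∈ EDer k A ↔ ∀ a b, δ (a * b) =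
    CoalgebraStruct.counit (R := k) a * δ b + CoalgebraStruct.counit (R := k) b * δ a := Iff.rfl

theorem EDer_one {δ : A →ₗ[k] k} (hδ : δ ∈ EDer k A) : δ 1 = 0 := by
  have := hδ 1 1
  rw [mul_one, Bialgebra.counit_one, one_mul] at this
  exact left_eq_add.mp this

theorem lie_mem_EDer (D : LieHopf.Lie k A) :
    (D.toLinearMap.restrictScalars k ∘ₗ LinearMap.id : A →ₗ[k] k) ∈ EDer k A :=
  fun a b => D.leibniz a b

/-- The `ε`-derivation as an element of the Lie algebra. -/
noncomputable def toLie (δ : A →ₗ[k] k) (hδ : δ ∈ EDer k A) : LieHopf.Lie k A :=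
  Derivation.mk' (M := LieHopf.K k A) δ (fun a b => hδ a b)

theorem toLie_dlin (δ : A →ₗ[k] k) (hδ : δ ∈ EDer k A) :
    ((toLie δ hδ).toLinearMap.restrictScalars k ∘ₗ LinearMap.id : A →ₗ[k] k) = δ := rfl

/-- The invariant derivation attached to an `ε`-derivation. -/
noncomputable def der (δ : A →ₗ[k] k) (hδ : δ ∈ EDer k A) : Derivation k A A :=
  Derivation.mk' (T A δ) (fun a b => by
    rw [Groth.Agent.S2968.T_leibniz δ hδ, smul_eq_mul, smul_eq_mul, mul_comm b])

@[simp] theorem der_apply (δ : A →ₗ[k] k) (hδ : δ ∈ EDer k A) (a : A) :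
    der δ hδ a = T A δ a := rfl

theorem T_one {δ : A →ₗ[k] k} (hδ : δ ∈ EDer k A) : T A δ 1 = 0 := by
  have := (der δ hδ).map_one_eq_zero
  exact this

theorem T_add (g f : A →ₗ[k] k) : T A (g + f) = T A g + T A f := by
  ext a
  simp only [T_apply, LinearMap.lTensor_add, LinearMap.add_apply, map_add]

theorem T_smul (c : k) (f : A →ₗ[k] k) : T A (c • f) = c • T A f := by
  ext a
  simp only [T_apply, LinearMap.lTensor_smul, LinearMap.smul_apply, map_smul]

/-- The algebra of invariant operators. -/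
noncomputable def invOp (k : Type u) [Field k] (A : Type u) [CommRing A] [HopfAlgebra k A] :
    Subalgebra k (Module.End k A) where
  carrier := {f | ∃ g : A →ₗ[k] k, T A g = f}
  mul_mem' := by
    rintro _ _ ⟨g, rfl⟩ ⟨f, rfl⟩
    refine ⟨conv g f, ?_⟩
    ext a
    rw [Module.End.mul_apply, T_T]
  add_mem' := by
    rintro _ _ ⟨g, rfl⟩ ⟨f, rfl⟩
    exact ⟨g + f, T_add g f⟩
  algebraMap_mem' := by
    intro c
    refine ⟨c • CoalgebraStruct.counit (R := k) (A := A), ?_⟩
    ext a
    rw [T_smul, LinearMap.smul_apply, T_counit, Module.algebraMap_end_apply]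

theorem mem_invOp {f : Module.End k A} : f ∈ invOp k A ↔ ∃ g : A →ₗ[k] k, T A g = f := Iff.rfl

theorem T_counit_comp {f : Module.End k A} (hf : f ∈ invOp k A) :
    T A ((CoalgebraStruct.counit (R := k) (A := A)) ∘ₗ f) = f := by
  obtain ⟨g, rfl⟩ := hf
  congr 1
  ext a
  exact Unip.counit_T g a

theorem aeval_mem_invOp {f : Module.End k A} (hf : f ∈ invOp k A) (q : k[X]) :
    aeval f q ∈ invOp k A := by
  have h1 : aeval f q ∈ Algebra.adjoin k {f} := Polynomial.aeval_mem_adjoin_singleton k f
  exact Algebra.adjoin_le (Set.singleton_subset_iff.mpr hf) h1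

/-- The eigenprojections of an operator with `Tᵖ = T`. -/
noncomputable def prj (p : ℕ) [Fact p.Prime] [CharP k p] (f : Module.End k A) (i : ZMod p) :
    Module.End k A :=
  aeval f (Lagrange.basis (Finset.univ : Finset (ZMod p)) (ZMod.castHom (dvd_refl p) k) i)

variable (p : ℕ) [Fact p.Prime] [CharP k p]

theorem cast_inj : Function.Injective (ZMod.castHom (dvd_refl p) k) :=
  (ZMod.castHom (dvd_refl p) k).injective

theorem sum_prj (f : Module.End k A) : ∑ i : ZMod p, prj p f i = 1 := by
  simp only [prj]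
  rw [← map_sum, Lagrange.sum_basis (cast_inj p).injOn Finset.univ_nonempty, map_one]

theorem sum_prj_apply (f : Module.End k A) (a : A) : ∑ i : ZMod p, prj p f i a = a := by
  have := LinearMap.congr_fun (sum_prj p f) a
  rwa [LinearMap.sum_apply, Module.End.one_apply] at this

theorem prod_X_sub_C_cast :
    ∏ i : ZMod p, (X - C (ZMod.castHom (dvd_refl p) k i)) = X ^ p - X := by
  have hp1 : 1 < p := (Fact.out : p.Prime).one_lt
  have h1 : ∏ i : ZMod p, (X - C i) = (X ^ p - X : (ZMod p)[X]) := by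
    have hr : (X ^ p - X : (ZMod p)[X]).roots = Finset.univ.val := by
      have := FiniteField.roots_X_pow_card_sub_X (ZMod p)
      rwa [ZMod.card] at this
    have hd : (X ^ p - X : (ZMod p)[X]).natDegree = p :=
      FiniteField.X_pow_card_sub_X_natDegree_eq (ZMod p) hp1
    have hm : (X ^ p - X : (ZMod p)[X]).Monic :=
      Polynomial.monic_X_pow_sub (by rw [degree_X]; exact_mod_cast hp1)
    have := Polynomial.prod_multiset_X_sub_C_of_monic_of_roots_card_eq hm (by
      rw [hr, hd]
      rw [Finset.card_val, Finset.card_univ, ZMod.card])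
    rw [hr] at this
    exact this
  have h2 := congrArg (Polynomial.map (ZMod.castHom (dvd_refl p) k)) h1
  rw [Polynomial.map_prod] at h2
  simpa using h2

theorem mul_basis (i : ZMod p) : (X - C (ZMod.castHom (dvd_refl p) k i)) *
    Lagrange.basis (Finset.univ : Finset (ZMod p)) (ZMod.castHom (dvd_refl p) k) i =
    C (∏ j ∈ Finset.univ.erase i,
      (ZMod.castHom (dvd_refl p) k i - ZMod.castHom (dvd_refl p) k j)⁻¹) * (X ^ p - X) := by
  rw [← prod_X_sub_C_cast, ← Finset.mul_prod_erase Finset.univ _ (Finset.mem_univ i),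
    Lagrange.basis]
  simp only [Lagrange.basisDivisor, Finset.prod_mul_distrib, ← map_prod]
  ring

theorem mul_prj (f : Module.End k A) (hf : f ^ p = f) (i : ZMod p) (a : A) :
    f (prj p f i a) = (ZMod.castHom (dvd_refl p) k i) • prj p f i a := by
  have h1 := congrArg (fun q => aeval f q a) (mul_basis (k := k) p i)
  simp only [map_mul, map_sub, aeval_X, aeval_C, map_pow, hf, sub_self, mul_zero,
    LinearMap.zero_apply] at h1
  rw [Module.End.mul_apply, LinearMap.sub_apply, Module.algebraMap_end_apply, sub_eq_zero] at h1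
  exact h1

theorem aeval_apply_of_eq {f : Module.End k A} {c : k} {a : A} (h : f a = c • a) (q : k[X]) :
    aeval f q a = q.eval c • a := by
  induction q using Polynomial.induction_on with
  | C r => simp
  | add q r hq hr => rw [map_add, LinearMap.add_apply, hq, hr, eval_add, add_smul]
  | monomial n r hn =>
    rw [pow_succ, ← mul_assoc, map_mul, aeval_X, Module.End.mul_apply, h, map_smul, hn,
      smul_smul, eval_mul (p := C r * X ^ n), eval_X, mul_comm]

theorem prj_apply_of_eq {f : Module.End k A} {j : ZMod p} {a : A}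
    (h : f a = (ZMod.castHom (dvd_refl p) k j) • a) (i : ZMod p) :
    prj p f i a = if i = j then a else 0 := by
  rw [prj, aeval_apply_of_eq h]
  split_ifs with hij
  · rw [hij, Lagrange.eval_basis_self (cast_inj p).injOn (Finset.mem_univ j), one_smul]
  · rw [Lagrange.eval_basis_of_ne hij (Finset.mem_univ j), zero_smul]

/-- Induction principle: an additive property of elements of `A` may be checked on
eigenvectors. -/
theorem eig_induction {f : Module.End k A} (hf : f ^ p = f) {Q : A → Prop} (h0 : Q 0)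
    (hadd : ∀ a b, Q a → Q b → Q (a + b))
    (heig : ∀ (j : ZMod p) (a : A), f a = (ZMod.castHom (dvd_refl p) k j) • a → Q a) (a : A) :
    Q a := by
  rw [← sum_prj_apply p f a]
  exact Finset.sum_induction _ Q (fun a b => hadd a b) h0 (fun i _ => heig i _ (mul_prj p f hf i a))

/-- The algebra map to `k[ℤ/p]` attached to an `ε`-derivation with `Tᵖ = T`. -/
noncomputable def muLin (δ : A →ₗ[k] k) : A →ₗ[k] MonoidAlgebra k (Multiplicative (ZMod p)) :=
  ∑ i : ZMod p, (MonoidAlgebra.lsingle (Multiplicative.ofAdd i)) ∘ₗ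
    (CoalgebraStruct.counit (R := k) (A := A)) ∘ₗ (prj p (T A δ) i)

theorem muLin_apply (δ : A →ₗ[k] k) (a : A) : muLin p δ a =
    ∑ i : ZMod p, MonoidAlgebra.single (Multiplicative.ofAdd i)
      (CoalgebraStruct.counit (R := k) (prj p (T A δ) i a)) := by
  rw [muLin, LinearMap.sum_apply]
  rfl

theorem muLin_of_eig {δ : A →ₗ[k] k} {j : ZMod p} {a : A}
    (h : T A δ a = (ZMod.castHom (dvd_refl p) k j) • a) : muLin p δ a =
    MonoidAlgebra.single (Multiplicative.ofAdd j) (CoalgebraStruct.counit (R := k) a) := by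
  rw [muLin_apply, Finset.sum_eq_single j]
  · rw [prj_apply_of_eq p h, if_pos rfl]
  · intro i _ hij
    rw [prj_apply_of_eq p h, if_neg hij, map_zero, MonoidAlgebra.single_zero]
  · intro hj
    exact absurd (Finset.mem_univ j) hj

theorem eig_one {δ : A →ₗ[k] k} (hδ : δ ∈ EDer k A) :
    T A δ 1 = (ZMod.castHom (dvd_refl p) k 0) • (1 : A) := by
  rw [map_zero, zero_smul, T_one hδ]

theorem eig_mul {δ : A →ₗ[k] k} (hδ : δ ∈ EDer k A) {i j : ZMod p} {a b : A}
    (ha : T A δ a = (ZMod.castHom (dvd_refl p) k i) • a)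
    (hb : T A δ b = (ZMod.castHom (dvd_refl p) k j) • b) :
    T A δ (a * b) = (ZMod.castHom (dvd_refl p) k (i + j)) • (a * b) := by
  rw [Groth.Agent.S2968.T_leibniz δ hδ, ha, hb, map_add, add_smul, mul_smul_comm, smul_mul_assoc,
    add_comm]

/-- The algebra map to `k[ℤ/p]` attached to an `ε`-derivation with `Tᵖ = T`. -/
noncomputable def muAlg (δ : A →ₗ[k] k) (hδ : δ ∈ EDer k A) (hp : (T A δ) ^ p = T A δ) :
    A →ₐ[k] MonoidAlgebra k (Multiplicative (ZMod p)) :=
  AlgHom.ofLinearMap (muLin p δ)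
    (by
      rw [muLin_of_eig p (eig_one p hδ), Bialgebra.counit_one]
      rfl)
    (fun a b => by
      revert b
      refine eig_induction p hp (f := T A δ)
        (Q := fun a => ∀ b, muLin p δ (a * b) = muLin p δ a * muLin p δ b) ?_ ?_ ?_ a
      · intro b
        rw [zero_mul, map_zero, zero_mul]
      · intro x y hx hy b
        rw [add_mul, map_add, hx, hy, map_add, add_mul]
      · intro i x hx b
        refine eig_induction p hp (f := T A δ)
          (Q := fun b => muLin p δ (x * b) = muLin p δ x * muLin p δ b) ?_ ?_ ?_ b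
        · rw [mul_zero, map_zero, mul_zero]
        · intro y z hy hz
          rw [mul_add, map_add, hy, hz, map_add, mul_add]
        · intro j y hy
          rw [muLin_of_eig p (eig_mul p hδ hx hy), muLin_of_eig p hx, muLin_of_eig p hy,
            MonoidAlgebra.single_mul_single, Bialgebra.counit_mul, ofAdd_add])

theorem muAlg_apply (δ : A →ₗ[k] k) (hδ : δ ∈ EDer k A) (hp : (T A δ) ^ p = T A δ) (a : A) :
    muAlg p δ hδ hp a = muLin p δ a := rfl

theorem lTensor_muLin (δ : A →ₗ[k] k) {j : ZMod p} {a : A}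
    (h : T A δ a = (ZMod.castHom (dvd_refl p) k j) • a) :
    LinearMap.lTensor A (muLin p δ) (CoalgebraStruct.comul (R := k) a) =
      a ⊗ₜ[k] MonoidAlgebra.single (Multiplicative.ofAdd j) (1 : k) := by
  have h1 : ∀ (i : ZMod p) (z : A ⊗[k] A), LinearMap.lTensor A
      ((MonoidAlgebra.lsingle (Multiplicative.ofAdd i)) ∘ₗ
        (CoalgebraStruct.counit (R := k) (A := A)) ∘ₗ (prj p (T A δ) i)) z =
      (TensorProduct.rid k A (LinearMap.lTensor A ((CoalgebraStruct.counit (R := k) (A := A)) ∘ₗ
        (prj p (T A δ) i)) z)) ⊗ₜ[k] MonoidAlgebra.single (Multiplicative.ofAdd i) (1 : k) := by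
    intro i z
    induction z with
    | zero => simp
    | add x y hx hy => simp only [map_add, hx, hy, TensorProduct.add_tmul]
    | tmul x y =>
      simp only [LinearMap.lTensor_tmul, LinearMap.comp_apply, TensorProduct.rid_tmul,
        TensorProduct.smul_tmul, MonoidAlgebra.lsingle_apply]
      congr 1
      rw [MonoidAlgebra.smul_single, smul_eq_mul, mul_one]
  have h2 : ∀ i : ZMod p, (TensorProduct.rid k A (LinearMap.lTensor A
      ((CoalgebraStruct.counit (R := k) (A := A)) ∘ₗ (prj p (T A δ) i))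
      (CoalgebraStruct.comul (R := k) a))) = if i = j then a else 0 := by
    intro i
    rw [← prj_apply_of_eq p h i]
    have h3 := T_counit_comp (aeval_mem_invOp (mem_invOp.mpr ⟨δ, rfl⟩)
      (Lagrange.basis (Finset.univ : Finset (ZMod p)) (ZMod.castHom (dvd_refl p) k) i))
    exact LinearMap.congr_fun h3 a
  rw [muLin, ← LinearMap.coe_lTensorHom, map_sum, LinearMap.sum_apply]
  simp only [LinearMap.coe_lTensorHom, h1, h2]
  rw [Finset.sum_eq_single j]
  · rw [if_pos rfl]
  · intro i _ hij
    rw [if_neg hij, TensorProduct.zero_tmul]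
  · intro hj
    exact absurd (Finset.mem_univ j) hj

/-- The bialgebra map to `k[ℤ/p]` attached to an `ε`-derivation with `Tᵖ = T`. -/
noncomputable def mu (δ : A →ₗ[k] k) (hδ : δ ∈ EDer k A) (hp : (T A δ) ^ p = T A δ) :
    A →ₐc[k] MonoidAlgebra k (Multiplicative (ZMod p)) :=
  BialgHom.ofAlgHom (muAlg p δ hδ hp)
    (by
      apply AlgHom.ext
      intro a
      refine eig_induction p hp (f := T A δ) (Q := fun a =>
        ((Bialgebra.counitAlgHom k (MonoidAlgebra k (Multiplicative (ZMod p)))).comp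
          (muAlg p δ hδ hp)) a = Bialgebra.counitAlgHom k A a) ?_ ?_ ?_ a
      · simp only [map_zero]
      · intro x y hx hy
        rw [map_add, map_add, hx, hy]
      · intro j x hx
        rw [AlgHom.comp_apply, muAlg_apply, muLin_of_eig p hx]
        simp)
    (by
      apply AlgHom.ext
      intro a
      refine eig_induction p hp (f := T A δ) (Q := fun a =>
        ((Algebra.TensorProduct.map (muAlg p δ hδ hp) (muAlg p δ hδ hp)).comp
          (Bialgebra.comulAlgHom k A)) a = ((Bialgebra.comulAlgHom k _).comp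
            (muAlg p δ hδ hp)) a) ?_ ?_ ?_ a
      · simp only [map_zero]
      · intro x y hx hy
        rw [map_add, map_add, hx, hy]
      · intro j x hx
        rw [AlgHom.comp_apply, AlgHom.comp_apply, muAlg_apply, muLin_of_eig p hx]
        have h1 : ∀ z : A ⊗[k] A, Algebra.TensorProduct.map (muAlg p δ hδ hp)
            (muAlg p δ hδ hp) z = LinearMap.rTensor _ (muLin p δ)
              (LinearMap.lTensor A (muLin p δ) z) := by
          intro z
          induction z with
          | zero => simp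
          | add x y hx hy => simp only [map_add, hx, hy]
          | tmul x y => simp [muAlg_apply]
        rw [h1, Bialgebra.comulAlgHom_apply, lTensor_muLin p δ hx, LinearMap.rTensor_tmul,
          muLin_of_eig p hx, Bialgebra.comulAlgHom_apply]
        have h2 : (MonoidAlgebra.single (Multiplicative.ofAdd j)
            (CoalgebraStruct.counit (R := k) x) : MonoidAlgebra k (Multiplicative (ZMod p))) =
            (CoalgebraStruct.counit (R := k) x) • MonoidAlgebra.single (Multiplicative.ofAdd j) 1 := by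
          rw [MonoidAlgebra.smul_single, smul_eq_mul, mul_one]
        simp only [MonoidAlgebra.comul_single, CommSemiring.comul_apply, TensorProduct.map_tmul,
          MonoidAlgebra.lsingle_apply]
        rw [h2, TensorProduct.smul_tmul])

theorem mu_apply (δ : A →ₗ[k] k) (hδ : δ ∈ EDer k A) (hp : (T A δ) ^ p = T A δ) (a : A) :
    mu p δ hδ hp a = muLin p δ a := rfl

theorem mu_surjective (δ : A →ₗ[k] k) (hδ : δ ∈ EDer k A) (hp : (T A δ) ^ p = T A δ)
    (h0 : δ ≠ 0) : Function.Surjective (mu p δ hδ hp) := by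
  obtain ⟨a, ha⟩ : ∃ a, δ a ≠ 0 := by
    by_contra h
    push Not at h
    exact h0 (LinearMap.ext h)
  obtain ⟨j, hj⟩ : ∃ j : ZMod p, δ (prj p (T A δ) j a) ≠ 0 := by
    by_contra h
    push Not at h
    apply ha
    rw [← sum_prj_apply p (T A δ) a, map_sum]
    exact Finset.sum_eq_zero fun i _ => h i
  set x := prj p (T A δ) j a with hx
  have hx1 : T A δ x = (ZMod.castHom (dvd_refl p) k j) • x := mul_prj p _ hp j a
  have hx2 : δ x = (ZMod.castHom (dvd_refl p) k j) * CoalgebraStruct.counit (R := k) x := by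
    rw [← Unip.counit_T δ x, hx1, map_smul, smul_eq_mul]
  rw [hx2] at hj
  have hj0 : j ≠ 0 := by
    rintro rfl
    rw [map_zero, zero_mul] at hj
    exact hj rfl
  have hx3 : CoalgebraStruct.counit (R := k) x ≠ 0 := right_ne_zero_of_mul hj
  let S : Subalgebra k (MonoidAlgebra k (Multiplicative (ZMod p))) := (muAlg p δ hδ hp).range
  have hS1 : MonoidAlgebra.single (Multiplicative.ofAdd j) (1 : k) ∈ S := by
    refine ⟨(CoalgebraStruct.counit (R := k) x)⁻¹ • x, ?_⟩
    change muLin p δ _ = _
    rw [map_smul, muLin_of_eig p hx1, MonoidAlgebra.smul_single, smul_eq_mul,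
      inv_mul_cancel₀ hx3]
  have hS2 : ∀ i : ZMod p, MonoidAlgebra.single (Multiplicative.ofAdd i) (1 : k) ∈ S := by
    intro i
    have h1 := pow_mem hS1 (i * j⁻¹).val
    rw [MonoidAlgebra.single_pow, one_pow, ← ofAdd_nsmul, nsmul_eq_mul, ZMod.natCast_zmod_val,
      mul_assoc, inv_mul_cancel₀ hj0, mul_one] at h1
    exact h1
  intro y
  have hy : y ∈ S := by
    induction y using MonoidAlgebra.induction_on with
    | of g => exact hS2 (Multiplicative.toAdd g)
    | add x y hx hy => exact add_mem hx hy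
    | smul r x hx => exact S.smul_mem hx r
  exact hy

omit [Fact p.Prime] [CharP k p] in
theorem EDer_ext {s : Set A} (hs : Algebra.adjoin k s = ⊤) {δ δ' : A →ₗ[k] k}
    (hδ : δ ∈ EDer k A) (hδ' : δ' ∈ EDer k A) (h : ∀ a ∈ s, δ a = δ' a) : δ = δ' := by
  ext a
  have ha : a ∈ Algebra.adjoin k s := by rw [hs]; trivial
  induction ha using Algebra.adjoin_induction with
  | mem x hx => exact h x hx
  | algebraMap r =>
    rw [Algebra.algebraMap_eq_smul_one, map_smul, map_smul, EDer_one hδ, EDer_one hδ']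
  | add x y _ _ h1 h2 => rw [map_add, map_add, h1, h2]
  | mul x y _ _ h1 h2 => rw [hδ, hδ', h1, h2]

instance finite_EDer [Algebra.FiniteType k A] : Module.Finite k (EDer k A) := by
  obtain ⟨s, hs⟩ := (inferInstance : Algebra.FiniteType k A).out
  let f : EDer k A →ₗ[k] (s → k) :=
    { toFun := fun δ a => δ.1 a.1
      map_add' := fun _ _ => rfl
      map_smul' := fun _ _ => rfl }
  refine Module.Finite.of_injective f ?_
  intro δ δ' h
  exact Subtype.ext (EDer_ext hs δ.2 δ'.2 fun a ha => congrFun h ⟨a, ha⟩)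

theorem T_injective : Function.Injective (fun g : A →ₗ[k] k => T A g) := by
  intro g g' h
  ext a
  rw [← Unip.counit_T g a, ← Unip.counit_T g' a]
  exact congrArg _ (LinearMap.congr_fun h a)

theorem nontrivial_hopf (k : Type u) [Field k] (A : Type u) [CommRing A] [HopfAlgebra k A] :
    Nontrivial A := by
  refine ⟨⟨0, 1, fun h => ?_⟩⟩
  have := congrArg (CoalgebraStruct.counit (R := k) (A := A)) h
  rw [map_zero, Bialgebra.counit_one] at this
  exact zero_ne_one this

/-- The iterated `p`-operation. -/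
noncomputable def pPow (p : ℕ) (δ : A →ₗ[k] k) (n : ℕ) : A →ₗ[k] k :=
  (CoalgebraStruct.counit (R := k) (A := A)) ∘ₗ ((T A δ) ^ (p ^ n) : Module.End k A)

omit [Fact p.Prime] [CharP k p] in
theorem T_pPow (δ : A →ₗ[k] k) (n : ℕ) : T A (pPow p δ n) = (T A δ) ^ (p ^ n) :=
  T_counit_comp (pow_mem (mem_invOp.mpr ⟨δ, rfl⟩) _)

theorem pPow_mem {δ : A →ₗ[k] k} (hδ : δ ∈ EDer k A) (n : ℕ) : pPow p δ n ∈ EDer k A := by
  haveI : Nontrivial A := nontrivial_hopf k A
  intro a b
  simp only [pPow, LinearMap.comp_apply]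
  rw [Groth.Agent.S2968.pow_char_leibniz p (T A δ) (Groth.Agent.S2968.T_leibniz δ hδ), map_add,
    Bialgebra.counit_mul, Bialgebra.counit_mul]
  ring

/-- Over an algebraically closed field, an `ε`-derivation which is not `p`-nilpotent gives a closed
subgroup isomorphic to `μ_p`. -/
theorem exists_mu_of_not_nilpotent [IsAlgClosed k] [Algebra.FiniteType k A] (δ : A →ₗ[k] k)
    (hδ : δ ∈ EDer k A) (h : ∀ n : ℕ, (T A δ) ^ (p ^ n) ≠ 0) :
    ∃ φ : A →ₐc[k] MonoidAlgebra k (Multiplicative (ZMod p)), Function.Surjective φ := by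
  haveI hN0 : Module.Finite k (EDer k A) := finite_EDer
  haveI hN : IsNoetherian k (EDer k A) := isNoetherian_of_isNoetherianRing_of_finite k (EDer k A)
  haveI : Nontrivial A := nontrivial_hopf k A
  let R : Subalgebra k (Module.End k A) := Algebra.adjoin k {T A δ}
  letI : CommRing R := Algebra.adjoinCommRingOfComm k (by
    rintro a rfl b rfl
    rfl)
  haveI : CharP R p := charP_of_injective_algebraMap (algebraMap k R).injective p
  let y : R := ⟨T A δ, Algebra.subset_adjoin rfl⟩
  let τ : EDer k A →ₗ[k] Module.End k A :=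
    { toFun := fun δ => T A δ.1
      map_add' := fun a b => T_add _ _
      map_smul' := fun c a => T_smul _ _ }
  let W : Submodule k R := (LinearMap.range τ).comap R.val.toLinearMap
  haveI : Module.Finite k W := by
    have hc : ∀ g : A →ₗ[k] k, (CoalgebraStruct.counit (R := k) (A := A)) ∘ₗ T A g = g :=
      fun g => LinearMap.ext fun a => Unip.counit_T g a
    let g : W →ₗ[k] EDer k A :=
      { toFun := fun w => ⟨(CoalgebraStruct.counit (R := k) (A := A)) ∘ₗ w.1.1, by
          obtain ⟨δ, hδ⟩ := w.2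
          have hδ' : T A δ.1 = w.1.1 := hδ
          rw [← hδ', hc]
          exact δ.2⟩
        map_add' := fun a b => Subtype.ext (LinearMap.comp_add _ _ _)
        map_smul' := fun c a => Subtype.ext (LinearMap.comp_smul _ _ _) }
    refine Module.Finite.of_injective g ?_
    intro a b hab
    have h1 := congrArg (fun z : EDer k A => T A z.1) hab
    obtain ⟨δ, hδ⟩ := a.2
    have hδ1 : T A δ.1 = a.1.1 := hδ
    obtain ⟨δ', hδ'⟩ := b.2
    have hδ2 : T A δ'.1 = b.1.1 := hδ'
    change T A ((CoalgebraStruct.counit (R := k) (A := A)) ∘ₗ a.1.1) =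
      T A ((CoalgebraStruct.counit (R := k) (A := A)) ∘ₗ b.1.1) at h1
    rw [← hδ1, ← hδ2, hc, hc, hδ1, hδ2] at h1
    exact Subtype.ext (Subtype.ext h1)
  obtain ⟨E, ⟨⟨δ', hδ'⟩, hEδ⟩, hE0, hEp⟩ := exists_pow_eq_self p W y
    (fun i hi => h i (congrArg Subtype.val hi))
    (fun i => ⟨⟨pPow p δ i, pPow_mem p hδ i⟩, T_pPow p δ i⟩)
  have hEδ' : T A δ' = E.1 := hEδ
  have h1 : (T A δ') ^ p = T A δ' := by
    rw [hEδ']
    exact congrArg Subtype.val hEp
  refine ⟨mu p δ' hδ' h1, mu_surjective p δ' hδ' h1 ?_⟩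
  rintro rfl
  apply hE0
  apply Subtype.ext
  rw [← hEδ']
  have := T_smul (A := A) (0 : k) (0 : A →ₗ[k] k)
  rw [smul_zero, zero_smul] at this
  exact this

end Hopf

end K218.PLie
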