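import Groth.Agent.SGA3t2b.K218.Cartan
import Groth.Agent.SGA3t2b.K218.LocFree
import Mathlib.LinearAlgebra.Charpoly.Basic
import Mathlib.RingTheory.Localization.BaseChange
import Mathlib.LinearAlgebra.Projection

/-!
# Over a reduced base with fibres of locally constant rank, quasi-regular elements are regular
-/

set_option autoImplicit false

universe u

open scoped TensorProduct
open Module LieAlgebra SGA3t2b

namespace K218.Reduced

open K218.RankBC K218.Fib K218.SurjFib K218.Cartan K218.LocFree

section CH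

variable {B M : Type*} [CommRing B] [AddCommGroup M] [Module B M] [Module.Finite B M]
  [Module.Free B M]

open Polynomial in
/-- Consequence of Cayley–Hamilton. -/
theorem exists_pow_eq (u : Module.End B M) (r N : ℕ) (hrN : r ≤ N)
    (h0 : ∀ i < r, u.charpoly.coeff i = 0) (hr : IsUnit (u.charpoly.coeff r)) :
    ∃ w : Module.End B M, Commute u w ∧ u ^ N = u ^ (2 * N) * w := by
  obtain ⟨Q, hQ⟩ : (X : B[X]) ^ r ∣ u.charpoly := by
    rw [X_pow_dvd_iff]
    exact h0
  have hQ0 : Q.coeff 0 = u.charpoly.coeff r := by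
    rw [hQ]
    have := Polynomial.coeff_X_pow_mul Q r 0
    rw [zero_add] at this
    exact this.symm
  rw [← hQ0] at hr
  obtain ⟨q, hq⟩ := hr
  have hdecomp : Q = X * divX Q + C (q : B) := by
    rw [hq]; exact (X_mul_divX_add Q).symm
  have hCH : aeval u (X ^ r * Q) = 0 := by rw [← hQ]; exact LinearMap.aeval_self_charpoly u
  let v : Module.End B M := -((q⁻¹ : Bˣ) : B) • aeval u (divX Q)
  have hv : Commute u v := by
    apply Commute.smul_right
    rw [← aeval_X (R := B) u]
    simp only [aeval_X]
    have := (Polynomial.commute_X (R := B) (divX Q)).map (aeval u)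
    simpa using this
  have h1 : u ^ r = u ^ (r + 1) * v := by
    have h2 : u ^ r * (u * aeval u (divX Q) + (q : B) • (1 : Module.End B M)) = 0 := by
      rw [hdecomp] at hCH
      simp only [map_mul, map_add, map_pow, aeval_X, aeval_C] at hCH
      rw [Algebra.algebraMap_eq_smul_one] at hCH
      exact hCH
    rw [mul_add, mul_smul_comm, mul_one, ← mul_assoc, ← pow_succ] at h2
    have h3 : (q : B) • u ^ r = -(u ^ (r + 1) * aeval u (divX Q)) := by
      rw [eq_neg_iff_add_eq_zero, add_comm]
      exact h2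
    have h4 : u ^ r = ((q⁻¹ : Bˣ) : B) • ((q : B) • u ^ r) := by
      rw [smul_smul, Units.inv_mul, one_smul]
    rw [h4, h3]
    simp only [v]
    rw [smul_neg, neg_smul, mul_neg, mul_smul_comm]
  have h2 : ∀ j : ℕ, u ^ r = u ^ (r + j) * v ^ j := by
    intro j
    induction j with
    | zero => simp
    | succ j ih =>
      calc u ^ r = u ^ (r + j) * v ^ j := ih
        _ = u ^ j * u ^ r * v ^ j := by rw [← pow_add, add_comm j r]
        _ = u ^ j * (u ^ (r + 1) * v) * v ^ j := by rw [← h1]
        _ = u ^ (r + (j + 1)) * v ^ (j + 1) := by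
          rw [← mul_assoc, ← pow_add, mul_assoc, ← pow_succ', show j + (r + 1) = r + (j + 1) by ring]
  refine ⟨v ^ N, hv.pow_right N, ?_⟩
  obtain ⟨s, rfl⟩ := Nat.exists_eq_add_of_le hrN
  rw [pow_add, mul_comm 2 (r + s)]
  have h3 : u ^ r * u ^ s = u ^ s * u ^ r := by rw [← pow_add, ← pow_add, add_comm]
  rw [h3, h2 (r + s), ← mul_assoc, ← pow_add]
  congr 2
  ring

end CH

section Desc

variable {A M : Type*} [CommRing A] [AddCommGroup M] [Module A M]

theorem exists_smul_eq_zero_of_one_tmul (q : Ideal A) [q.IsPrime] (m : M)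
    (h : (1 : Localization.AtPrime q) ⊗ₜ[A] m = 0) : ∃ g : A, g ∉ q ∧ g • m = 0 := by
  have h' : TensorProduct.mk A (Localization.AtPrime q) M 1 m = 0 := h
  rw [IsLocalizedModule.eq_zero_iff q.primeCompl] at h'
  obtain ⟨⟨g, hg⟩, hgm⟩ := h'
  exact ⟨g, hg, hgm⟩

theorem eq_zero_of_local (m : M) (h : ∀ q : PrimeSpectrum A, ∃ g : A, g ∉ q.asIdeal ∧ g • m = 0) :
    m = 0 := by
  have : Ideal.span {g : A | g • m = 0} = ⊤ := by
    by_contra hne
    obtain ⟨n, hn, hle⟩ := Ideal.exists_le_maximal _ hne
    obtain ⟨g, hg, hgm⟩ := h ⟨n, hn.isPrime⟩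
    exact hg (hle (Ideal.subset_span hgm))
  have h1 : Ideal.span {g : A | g • m = 0} ≤ LinearMap.ker (LinearMap.toSpanSingleton A M m) := by
    rw [Ideal.span, Submodule.span_le]
    intro g hg
    simpa using hg
  rw [this] at h1
  have h2 : (1 : A) ∈ LinearMap.ker (LinearMap.toSpanSingleton A M m) := h1 trivial
  simpa using h2

theorem mem_of_local (H : Submodule A M) (m : M)
    (h : ∀ q : PrimeSpectrum A, ∃ g : A, g ∉ q.asIdeal ∧ g • m ∈ H) : m ∈ H := by
  rw [← Submodule.Quotient.mk_eq_zero]
  apply eq_zero_of_local (A := A)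
  intro q
  obtain ⟨g, hg, hgm⟩ := h q
  refine ⟨g, hg, ?_⟩
  rw [← Submodule.Quotient.mk_smul, Submodule.Quotient.mk_eq_zero]
  exact hgm

/-- descent of the local identities to the module -/
theorem local_descent (u : Module.End A M) (N : ℕ) (q : Ideal A) [q.IsPrime]
    (h : ∃ w : Module.End (Localization.AtPrime q) (Localization.AtPrime q ⊗[A] M),
      Commute (u.baseChange (Localization.AtPrime q)) w ∧
      (u.baseChange (Localization.AtPrime q)) ^ N =
        (u.baseChange (Localization.AtPrime q)) ^ (2 * N) * w) (z : M) :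
    (∃ g : A, g ∉ q ∧ g • (u ^ N) z ∈ LinearMap.range (u ^ (2 * N))) ∧
    ((u ^ (2 * N)) z = 0 → ∃ g : A, g ∉ q ∧ g • (u ^ N) z = 0) := by
  obtain ⟨w, hw, hu⟩ := h
  constructor
  · have h1 : (1 : Localization.AtPrime q) ⊗ₜ[A]
        ((LinearMap.range (u ^ (2 * N))).mkQ ((u ^ N) z)) = 0 := by
      have h2 : (1 : Localization.AtPrime q) ⊗ₜ[A] ((u ^ N) z) =
          ((u ^ (2 * N)).baseChange (Localization.AtPrime q)) (w (1 ⊗ₜ z)) := by
        rw [LinearMap.baseChange_pow, ← Module.End.mul_apply, ← hu, ← LinearMap.baseChange_pow,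
          LinearMap.baseChange_tmul]
      have h3 : ((LinearMap.range (u ^ (2 * N))).mkQ.baseChange (Localization.AtPrime q))
          ((1 : Localization.AtPrime q) ⊗ₜ[A] ((u ^ N) z)) = 0 := by
        rw [h2, ← LinearMap.comp_apply, ← LinearMap.baseChange_comp]
        have : (LinearMap.range (u ^ (2 * N))).mkQ ∘ₗ (u ^ (2 * N)) = 0 := by
          ext x
          simp
        rw [this, LinearMap.baseChange_zero, LinearMap.zero_apply]
      exact h3
    obtain ⟨g, hg, hgm⟩ := exists_smul_eq_zero_of_one_tmul q _ h1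
    refine ⟨g, hg, ?_⟩
    rw [← map_smul, Submodule.mkQ_apply, Submodule.Quotient.mk_eq_zero] at hgm
    exact hgm
  · intro hz
    apply exists_smul_eq_zero_of_one_tmul
    have h2 : (1 : Localization.AtPrime q) ⊗ₜ[A] ((u ^ N) z) =
        (w * (u.baseChange (Localization.AtPrime q)) ^ (2 * N)) (1 ⊗ₜ z) := by
      rw [← (hw.pow_left (2 * N)).eq, ← hu, ← LinearMap.baseChange_pow, LinearMap.baseChange_tmul]
    rw [h2, Module.End.mul_apply, ← LinearMap.baseChange_pow, LinearMap.baseChange_tmul, hz,
      TensorProduct.tmul_zero, map_zero]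

theorem isCompl_of_local (u : Module.End A M) (N : ℕ)
    (h : ∀ q : PrimeSpectrum A, ∃ w : Module.End (Localization.AtPrime q.asIdeal)
        (Localization.AtPrime q.asIdeal ⊗[A] M),
      Commute (u.baseChange (Localization.AtPrime q.asIdeal)) w ∧
      (u.baseChange (Localization.AtPrime q.asIdeal)) ^ N =
        (u.baseChange (Localization.AtPrime q.asIdeal)) ^ (2 * N) * w) :
    IsCompl (LinearMap.ker (u ^ N)) (LinearMap.range (u ^ N)) := by
  have h1 : ∀ z, (u ^ N) z ∈ LinearMap.range (u ^ (2 * N)) := fun z =>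
    mem_of_local _ _ fun q => (local_descent u N q.asIdeal (h q) z).1
  have h2 : ∀ z, (u ^ (2 * N)) z = 0 → (u ^ N) z = 0 := fun z hz =>
    eq_zero_of_local _ fun q => (local_descent u N q.asIdeal (h q) z).2 hz
  constructor
  · rw [Submodule.disjoint_def]
    rintro x hx ⟨y, rfl⟩
    apply h2
    rw [two_mul, pow_add]
    exact hx
  · rw [codisjoint_iff_le_sup]
    intro x _
    obtain ⟨y, hy⟩ := h1 x
    have hx : x = (x - (u ^ N) y) + (u ^ N) y := by abel
    rw [hx]
    refine add_mem (Submodule.mem_sup_left ?_) (Submodule.mem_sup_right ⟨y, rfl⟩)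
    rw [LinearMap.mem_ker, map_sub, ← hy, two_mul, pow_add, Module.End.mul_apply, sub_self]

end Desc

section Final

variable {A : Type u} [CommRing A] {L : Type u} [LieRing L] [LieAlgebra A L] [Module.Finite A L]
  [Module.Projective A L]

theorem isRegularRel_of_isCompl (a : L) (ha : IsQuasiRegular A L a) (N : ℕ) (hN : 1 ≤ N)
    (h : IsCompl (LinearMap.ker ((ad A L a) ^ N)) (LinearMap.range ((ad A L a) ^ N))) :
    IsRegularRel A L a := by
  have hker : (LieSubalgebra.engel A a).toSubmodule = LinearMap.ker ((ad A L a) ^ N) := by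
    apply le_antisymm
    · intro x hx
      rw [LieSubalgebra.mem_toSubmodule, LieSubalgebra.mem_engel_iff] at hx
      obtain ⟨n, hn⟩ := hx
      -- injectivity of u^N on the range
      have hinj : ∀ y, ((ad A L a) ^ N) (((ad A L a) ^ N) y) = 0 → ((ad A L a) ^ N) y = 0 := by
        intro y hy
        exact (Submodule.disjoint_def.mp h.disjoint) _ hy ⟨y, rfl⟩
      have hpow : ∀ j : ℕ, ∀ y, ((ad A L a) ^ (N * (j + 1))) y = 0 → ((ad A L a) ^ N) y = 0 := by
        intro j
        induction j with
        | zero => intro y hy; simpa using hy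
        | succ j ih =>
          intro y hy
          apply hinj
          apply ih
          rw [← Module.End.mul_apply, ← pow_add]
          rw [show N * (j + 1 + 1) = N * (j + 1) + N by ring] at hy
          exact hy
      apply hpow n
      have hle : n ≤ N * (n + 1) := by nlinarith
      obtain ⟨m, hm⟩ := Nat.exists_eq_add_of_le hle
      rw [hm, add_comm, pow_add, Module.End.mul_apply, hn, map_zero]
    · intro x hx
      rw [LieSubalgebra.mem_toSubmodule, LieSubalgebra.mem_engel_iff]
      exact ⟨N, hx⟩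
  refine ⟨ha, LieSubalgebra.engel A a, isCartanRel_engel a ha ?_ ?_ ?_,
    LieSubalgebra.self_mem_engel A a⟩
  · rw [hker]
    haveI : Module.Projective A (LinearMap.range ((ad A L a) ^ N)) :=
      Module.Projective.of_split (LinearMap.range ((ad A L a) ^ N)).subtype
        (Submodule.projectionOnto _ _ h.symm) (by
          apply LinearMap.ext
          intro x
          exact Submodule.projectionOnto_apply_left h.symm x)
    exact Module.Projective.of_equiv
      (Submodule.quotientEquivOfIsCompl _ _ h).symm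
  · intro z hz
    rw [LieSubalgebra.mem_engel_iff] at hz ⊢
    obtain ⟨n, hn⟩ := hz
    refine ⟨n + 1, ?_⟩
    rw [pow_succ, Module.End.mul_apply]
    exact hn
  · intro y
    have hy : y ∈ LinearMap.ker ((ad A L a) ^ N) ⊔ LinearMap.range ((ad A L a) ^ N) := by
      rw [h.sup_eq_top]; trivial
    obtain ⟨k, hk, _, ⟨w, rfl⟩, hsum⟩ := Submodule.mem_sup.mp hy
    refine ⟨((ad A L a) ^ (N - 1)) w, ?_⟩
    have h1 : ⁅a, ((ad A L a) ^ (N - 1)) w⁆ = ((ad A L a) ^ N) w := by
      conv_rhs => rw [← Nat.sub_add_cancel hN, pow_succ']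
      rfl
    rw [h1, ← hsum, ← LieSubalgebra.mem_toSubmodule, hker]
    have : ((ad A L a) ^ N) w - (k + ((ad A L a) ^ N) w) = -k := by abel
    rw [this]
    exact neg_mem hk

end Final

end K218.Reduced
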